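import Groth.Agent.PinchLib.Ring
import Groth.Agent.LimTop.PullSec
import Groth.Agent.LimTop.StalkHom
import Groth.Agent.QCoh.FiniteType
import Groth.Agent.QCoh.Pullback
import Groth.Agent.Props.QProj
import Mathlib.RingTheory.Flat.EquationalCriterion
import Mathlib.RingTheory.Flat.Localization
import Groth.Prelude.Def_FlatMod2

/-!
# Quasi-coherent modules on a pinching

Vanishing, finiteness, flatness and finite local freeness of a quasi-coherent module on a pinching
`Y = X ⊔_{X'} Y'` can be tested on `X` and `Y'`.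
-/

set_option autoImplicit false
set_option backward.isDefEq.respectTransparency false

universe u

open CategoryTheory Limits AlgebraicGeometry TopologicalSpace Opposite
open scoped TensorProduct

namespace Groth.Agent.PinchLib

/-- Sections of a quasi-coherent module are flat when its stalks are. -/
theorem flat_sections {X : Scheme.{u}} {M : X.Modules} [M.IsQuasicoherent] (h : FlatMod.IsFlat M)
    {U : X.Opens} (hU : IsAffineOpen U) : Module.Flat Γ(X, U) Γ(M, U) := by
  have hpt : ∀ P : Ideal Γ(X, U), P.IsMaximal → ∃ x : U, (hU.primeIdealOf x).asIdeal = P := by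
    intro P hP
    have hm : hU.fromSpec ⟨P, hP.isPrime⟩ ∈ U := hU.range_fromSpec.le ⟨_, rfl⟩
    refine ⟨⟨_, hm⟩, congrArg PrimeSpectrum.asIdeal
      (hU.fromSpec.isOpenEmbedding.injective (hU.fromSpec_primeIdealOf ⟨_, hm⟩))⟩
  choose pt hpt using hpt
  letI (P : Ideal Γ(X, U)) [hP : P.IsMaximal] : Module Γ(X, U) (M.presheaf.stalk (pt P hP).1) :=
    LimTop.stalkModule M (pt P hP).2
  haveI (P : Ideal Γ(X, U)) [hP : P.IsMaximal] :
      IsLocalizedModule.AtPrime P (LimTop.germLin M (pt P hP).2) := by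
    convert LimTop.isLocalizedModule_germLin M hU (pt P hP).2
    exact (hpt P hP).symm
  refine Module.flat_of_isLocalized_maximal Γ(X, U) Γ(M, U)
    (fun P hP => M.presheaf.stalk (pt P hP).1) (fun P hP => LimTop.germLin M (pt P hP).2)
    fun P hP => ?_
  let x := pt P hP
  letI := X.presheaf.algebra_section_stalk x
  haveI : IsScalarTower Γ(X, U) (X.presheaf.stalk x.1) (M.presheaf.stalk x.1) :=
    IsScalarTower.of_algebraMap_smul fun _ _ => rfl
  haveI : Module.Flat (X.presheaf.stalk x.1) (M.presheaf.stalk x.1) := h x.1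
  haveI := hU.isLocalization_stalk x
  haveI : Module.Flat Γ(X, U) (X.presheaf.stalk x.1) :=
    IsLocalization.flat (X.presheaf.stalk x.1) (hU.primeIdealOf x).asIdeal.primeCompl
  exact Module.Flat.trans Γ(X, U) (X.presheaf.stalk x.1) (M.presheaf.stalk x.1)

/-- Flat sections on an affine open give flat stalks. -/
theorem isFlatAt_of_flat_sections {X : Scheme.{u}} {M : X.Modules} [M.IsQuasicoherent]
    {U : X.Opens} (hU : IsAffineOpen U) {x : X} (hx : x ∈ U) [Module.Flat Γ(X, U) Γ(M, U)] :
    FlatMod.IsFlatAt M x := by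
  letI := LimTop.stalkModule M hx
  letI := X.presheaf.algebra_section_stalk ⟨x, hx⟩
  haveI : IsScalarTower Γ(X, U) (X.presheaf.stalk x) (M.presheaf.stalk x) :=
    IsScalarTower.of_algebraMap_smul fun _ _ => rfl
  haveI : IsLocalization.AtPrime (X.presheaf.stalk x) (hU.primeIdealOf ⟨x, hx⟩).asIdeal :=
    hU.isLocalization_stalk ⟨x, hx⟩
  haveI := LimTop.isLocalizedModule_germLin M hU hx
  exact Module.Flat.of_isLocalizedModule (X.presheaf.stalk x)
    (hU.primeIdealOf ⟨x, hx⟩).asIdeal.primeCompl (LimTop.germLin M hx)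

/-- Flat finitely presented sections near every point give finite local freeness. -/
theorem isFinLocFree_of_sections {X : Scheme.{u}} {M : X.Modules} [M.IsQuasicoherent]
    (h : ∀ x : X, ∃ U : X.Opens, IsAffineOpen U ∧ x ∈ U ∧
      Module.FinitePresentation Γ(X, U) Γ(M, U) ∧ Module.Flat Γ(X, U) Γ(M, U)) :
    FlatMod.IsFinLocFree M := by
  refine Props.QProj.isFinLocFree_of M (fun x => ?_) fun x => ?_
  · obtain ⟨U, hU, hx, hfp, -⟩ := h x
    exact ⟨U, hU, hx, hfp⟩
  · obtain ⟨U, hU, hx, hfp, hfl⟩ := h x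
    haveI : Module.Projective Γ(X, U) Γ(M, U) := Module.Flat.projective_of_finitePresentation
    haveI : Module.Finite Γ(X, U) Γ(M, U) := inferInstance
    exact Props.QProj.free_stalk_of_flat M hU hx

section Sections

variable {X Y : Scheme.{u}} (g : X ⟶ Y) (M : Y.Modules)

/-- Sections of a pullback as a base change. -/
theorem exists_secEquiv [M.IsQuasicoherent] {V : Y.Opens} (hV : IsAffineOpen V)
    (hW : IsAffineOpen (g ⁻¹ᵁ V)) :
    letI := (g.appLE V (g ⁻¹ᵁ V) le_rfl).hom.toAlgebra
    Nonempty (Γ(X, g ⁻¹ᵁ V) ⊗[Γ(Y, V)] Γ(M, V) ≃ₗ[Γ(X, g ⁻¹ᵁ V)]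
      Γ((Scheme.Modules.pullback g).obj M, g ⁻¹ᵁ V)) := by
  letI := (g.appLE V (g ⁻¹ᵁ V) le_rfl).hom.toAlgebra
  letI := LimTop.secModule g M (le_refl (g ⁻¹ᵁ V))
  haveI : IsScalarTower Γ(Y, V) Γ(X, g ⁻¹ᵁ V)
      Γ((Scheme.Modules.pullback g).obj M, g ⁻¹ᵁ V) :=
    IsScalarTower.of_algebraMap_smul fun _ _ => rfl
  exact ⟨(LimTop.isBaseChange_unitSec g M (le_refl (g ⁻¹ᵁ V)) hV hW).equiv⟩

end Sections

/-- An affine open covering every point. -/
lemma exists_affine_nhd {X : Scheme.{u}} (x : X) : ∃ U : X.Opens, IsAffineOpen U ∧ x ∈ U := by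
  obtain ⟨_, ⟨U, hU, rfl⟩, hxU, -⟩ := X.isBasis_affineOpens.exists_subset_of_mem_open
    (Set.mem_univ x) isOpen_univ
  exact ⟨U, hU, hxU⟩

/-- The sections of a zero module vanish. -/
lemma subsingleton_sections {X : Scheme.{u}} {M : X.Modules} (h : IsZero M) (U : X.Opens) :
    Subsingleton Γ(M, U) := by
  refine subsingleton_of_forall_eq 0 fun m => ?_
  have := congrArg (fun φ : M ⟶ M => φ.app U m) (h.eq_of_src (𝟙 M) 0)
  simpa using this

open Groth.Agent.LimTop in
/-- A quasi-coherent module with vanishing sections on affine opens vanishes. -/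
lemma isZero_of_sections {X : Scheme.{u}} (M : X.Modules) [M.IsQuasicoherent]
    (h : ∀ U : X.Opens, IsAffineOpen U → Subsingleton Γ(M, U)) : IsZero M := by
  refine (IsZero.iff_id_eq_zero M).mpr (hom_ext_stalk _ _ fun x => ?_)
  obtain ⟨U, hU, hx⟩ := exists_affine_nhd x
  have := h U hU
  letI := stalkModule M hx
  refine LinearMap.ext fun t => ?_
  haveI := LimTop.isLocalizedModule_germLin M hU hx
  obtain ⟨⟨m, s⟩, hm⟩ := IsLocalizedModule.surj (hU.primeIdealOf ⟨x, hx⟩).asIdeal.primeCompl
    (germLin M hx) t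
  have ht : (s : Γ(X, U)) • t = 0 := by
    rw [show (s : Γ(X, U)) • t = _ from hm, Subsingleton.elim m 0, map_zero]
  have : t = 0 := (Module.End.isUnit_iff _).mp (IsLocalizedModule.map_units (germLin M hx) s) |>.1
    (ht.trans (map_zero _).symm)
  rw [this, map_zero, map_zero]

/-- A surjective algebra is the quotient by the kernel. -/
lemma exists_algebra_quotient {R B : Type u} [CommRing R] [CommRing B] [Algebra R B]
    (hs : Function.Surjective (algebraMap R B)) :
    ∃ a : Algebra B (R ⧸ RingHom.ker (algebraMap R B)),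
      letI := a; IsScalarTower R B (R ⧸ RingHom.ker (algebraMap R B)) := by
  let e := RingHom.quotientKerEquivOfSurjective hs
  refine ⟨e.symm.toRingHom.toAlgebra, ?_⟩
  letI := e.symm.toRingHom.toAlgebra
  refine IsScalarTower.of_algebraMap_eq fun r => ?_
  show Ideal.Quotient.mk _ r = e.symm (algebraMap R B r)
  rw [RingEquiv.eq_symm_apply]
  rfl

section Pinched

variable {R A B : Type u} [CommRing R] [CommRing A] [Algebra R A] [CommRing B] [Algebra R B]
  {M : Type u} [AddCommGroup M] [Module R M]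
  (hs : Function.Surjective (algebraMap R B))
  (h : IsPinched (A := A) (RingHom.ker (algebraMap R B)))

include hs h in
/-- Vanishing, with a surjective algebra in place of the quotient. -/
theorem subsingleton' [Subsingleton (A ⊗[R] M)] [Subsingleton (B ⊗[R] M)] : Subsingleton M := by
  obtain ⟨a, ht⟩ := exists_algebra_quotient hs
  exact h.subsingleton inferInstance
    ((TensorProduct.AlgebraTensorModule.cancelBaseChange R B B _ M).symm.toEquiv.subsingleton)

include hs h in
/-- Finiteness, with a surjective algebra in place of the quotient. -/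
theorem finite' [Module.Finite A (A ⊗[R] M)] [Module.Finite B (B ⊗[R] M)] : Module.Finite R M := by
  obtain ⟨a, ht⟩ := exists_algebra_quotient hs
  let Q := R ⧸ RingHom.ker (algebraMap R B)
  haveI : Module.Finite Q (Q ⊗[R] M) :=
    Module.Finite.equiv (TensorProduct.AlgebraTensorModule.cancelBaseChange R B Q Q M)
  exact h.finite

include hs h in
/-- Flatness, with a surjective algebra in place of the quotient. -/
theorem flat' [Module.Flat A (A ⊗[R] M)] [Module.Flat B (B ⊗[R] M)] : Module.Flat R M := by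
  obtain ⟨a, ht⟩ := exists_algebra_quotient hs
  let Q := R ⧸ RingHom.ker (algebraMap R B)
  haveI : Module.Flat Q (Q ⊗[R] M) :=
    Module.Flat.of_linearEquiv (TensorProduct.AlgebraTensorModule.cancelBaseChange R B Q Q M).symm
  exact h.flat

include hs h in
/-- Finite presentation, with a surjective algebra in place of the quotient. -/
theorem finitePresentation' [Module.Flat R M] [Module.FinitePresentation A (A ⊗[R] M)]
    [Module.FinitePresentation B (B ⊗[R] M)] : Module.FinitePresentation R M := by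
  obtain ⟨a, ht⟩ := exists_algebra_quotient hs
  let Q := R ⧸ RingHom.ker (algebraMap R B)
  haveI : Module.FinitePresentation Q (Q ⊗[R] M) :=
    Module.FinitePresentation.of_equiv
      (TensorProduct.AlgebraTensorModule.cancelBaseChange R B Q Q M)
  exact h.finitePresentation

end Pinched

/-- The affine-local hypothesis of a pinching, for the restriction maps of `appLE`. -/
theorem isPinched_of {X Y Y' : Scheme.{u}} {f : X ⟶ Y} {u : Y' ⟶ Y} {V : Y.Opens}
    (hM : RingHom.ker (f.app V).hom ⊓ RingHom.ker (u.app V).hom = ⊥ ∧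
      ∀ a ∈ Ideal.map (f.app V).hom (RingHom.ker (u.app V).hom),
        ∃ i ∈ RingHom.ker (u.app V).hom, (f.app V).hom i = a) :
    letI := (f.appLE V (f ⁻¹ᵁ V) le_rfl).hom.toAlgebra
    letI := (u.appLE V (u ⁻¹ᵁ V) le_rfl).hom.toAlgebra
    IsPinched (A := Γ(X, f ⁻¹ᵁ V)) (RingHom.ker (algebraMap Γ(Y, V) Γ(Y', u ⁻¹ᵁ V))) := by
  letI := (f.appLE V (f ⁻¹ᵁ V) le_rfl).hom.toAlgebra
  letI := (u.appLE V (u ⁻¹ᵁ V) le_rfl).hom.toAlgebra
  have ef : algebraMap Γ(Y, V) Γ(X, f ⁻¹ᵁ V) = (f.app V).hom :=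
    congrArg CommRingCat.Hom.hom (Scheme.Hom.appLE_eq_app f)
  have eu : algebraMap Γ(Y, V) Γ(Y', u ⁻¹ᵁ V) = (u.app V).hom :=
    congrArg CommRingCat.Hom.hom (Scheme.Hom.appLE_eq_app u)
  refine ⟨fun i hi h0 => ?_, fun a ha => ?_⟩
  · rw [eu] at hi
    rw [ef] at h0
    have := hM.1.le (show i ∈ RingHom.ker (f.app V).hom ⊓ RingHom.ker (u.app V).hom from ⟨h0, hi⟩)
    exact this
  · rw [ef, eu] at ha
    obtain ⟨i, hi, e⟩ := hM.2 a ha
    exact ⟨i, by rw [eu]; exact hi, by rw [ef]; exact e⟩

lemma app_surjective_appLE {Y' Y : Scheme.{u}} (u : Y' ⟶ Y) [IsClosedImmersion u] {V : Y.Opens}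
    (hV : IsAffineOpen V) : Function.Surjective (u.appLE V (u ⁻¹ᵁ V) le_rfl).hom := by
  rw [Scheme.Hom.appLE_eq_app]
  exact u.app_surjective V hV

section Pullback

variable {X Y : Scheme.{u}} (g : X ⟶ Y) [IsAffineHom g] (M : Y.Modules) [M.IsQuasicoherent]

/-- An affine open of the base around the image of a point. -/
lemma exists_preimage_nhd (x : X) :
    ∃ V : Y.Opens, IsAffineOpen V ∧ IsAffineOpen (g ⁻¹ᵁ V) ∧ x ∈ g ⁻¹ᵁ V := by
  obtain ⟨V, hV, hx⟩ := exists_affine_nhd (g x)
  exact ⟨V, hV, hV.preimage g, hx⟩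

/-- Pullbacks of modules of finite type. -/
theorem isFiniteType_pullback [SheafOfModules.IsFiniteType.{u} M] :
    SheafOfModules.IsFiniteType.{u} ((Scheme.Modules.pullback g).obj M) := by
  haveI := QCoh.isQuasicoherent_pullback g M
  refine QCoh.isFiniteType_of_forall_exists _ fun x => ?_
  obtain ⟨V, hV, hW, hx⟩ := exists_preimage_nhd g x
  refine ⟨g ⁻¹ᵁ V, hW, hx, ?_⟩
  haveI := QCoh.finite_sections_of_isFiniteType M hV
  letI := (g.appLE V (g ⁻¹ᵁ V) le_rfl).hom.toAlgebra
  obtain ⟨e⟩ := exists_secEquiv g M hV hW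
  exact Module.Finite.equiv e

/-- Pullbacks of flat modules. -/
theorem isFlat_pullback (h : FlatMod.IsFlat M) :
    FlatMod.IsFlat ((Scheme.Modules.pullback g).obj M) := fun x => by
  haveI := QCoh.isQuasicoherent_pullback g M
  obtain ⟨V, hV, hW, hx⟩ := exists_preimage_nhd g x
  haveI := flat_sections h hV
  letI := (g.appLE V (g ⁻¹ᵁ V) le_rfl).hom.toAlgebra
  obtain ⟨e⟩ := exists_secEquiv g M hV hW
  haveI := Module.Flat.of_linearEquiv e.symm
  exact isFlatAt_of_flat_sections hW hx

/-- Pullbacks of finite locally free modules. -/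
theorem isFinLocFree_pullback (h : FlatMod.IsFinLocFree M) :
    FlatMod.IsFinLocFree ((Scheme.Modules.pullback g).obj M) := by
  haveI := QCoh.isQuasicoherent_pullback g M
  refine isFinLocFree_of_sections fun x => ?_
  obtain ⟨V, hV, hW, hx⟩ := exists_preimage_nhd g x
  haveI := Props.QProj.finitePresentation_sections M h hV
  haveI := Props.QProj.projective_sections M h hV
  letI := (g.appLE V (g ⁻¹ᵁ V) le_rfl).hom.toAlgebra
  obtain ⟨e⟩ := exists_secEquiv g M hV hW
  exact ⟨_, hW, hx, Module.FinitePresentation.of_equiv e, Module.Flat.of_linearEquiv e.symm⟩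

end Pullback

end Groth.Agent.PinchLib
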