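import Groth.Agent.PinchLib.Pushout
import Mathlib.AlgebraicGeometry.Morphisms.ClosedImmersion
import Mathlib.AlgebraicGeometry.Morphisms.Flat
import Groth.Prelude.Def_EtMil

/-!
# Schemes which are pushouts of ringed spaces

Over every open of the pushout the sections form the fibre product of the sections.
-/

set_option autoImplicit false
set_option backward.isDefEq.respectTransparency false

universe u

open CategoryTheory Limits AlgebraicGeometry TopologicalSpace Opposite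

namespace Groth.Agent.PinchLib

/-- The underlying ringed space. -/
noncomputable abbrev toSh : Scheme.{u} ⥤ SheafedSpace CommRingCat.{u} :=
  Scheme.forgetToLocallyRingedSpace ⋙ LocallyRingedSpace.forgetToSheafedSpace

variable {X Z Z' X' : Scheme.{u}} {ι : Z ⟶ X} {q : Z ⟶ Z'} {π : X ⟶ X'} {ι' : Z' ⟶ X'}
  (hpo : IsPushout (toSh.map ι) (toSh.map q) (toSh.map π) (toSh.map ι'))

include hpo in
/-- A pushout of ringed spaces commutes. -/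
lemma w_of_ringed : ι ≫ π = q ≫ ι' :=
  toSh.map_injective (by rw [Functor.map_comp, Functor.map_comp, hpo.w])

include hpo in
/-- Preimages in the corner agree. -/
lemma preimage_eq (U : X'.Opens) : ι ⁻¹ᵁ π ⁻¹ᵁ U = q ⁻¹ᵁ ι' ⁻¹ᵁ U :=
  congrArg (fun k : Z ⟶ X' => k ⁻¹ᵁ U) (w_of_ringed hpo)

include hpo in
/-- A section is determined by its restrictions. -/
theorem sections_injective (U : X'.Opens) (x y : Γ(X', U)) (hX : π.app U x = π.app U y)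
    (hZ : ι'.app U x = ι'.app U y) : x = y :=
  pushout_sections_injective (hpo.map SheafedSpace.forgetToPresheafedSpace) U x y hX hZ

include hpo in
/-- Compatible sections glue. -/
theorem sections_exists (U : X'.Opens) (s : Γ(X, π ⁻¹ᵁ U)) (t : Γ(Z', ι' ⁻¹ᵁ U))
    (h : ι.appLE (π ⁻¹ᵁ U) (ι ⁻¹ᵁ π ⁻¹ᵁ U) le_rfl s =
      q.appLE (ι' ⁻¹ᵁ U) (ι ⁻¹ᵁ π ⁻¹ᵁ U) (preimage_eq hpo U).le t) :
    ∃ x : Γ(X', U), π.app U x = s ∧ ι'.app U x = t := by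
  refine pushout_sections_exists (hpo.map SheafedSpace.forgetToPresheafedSpace) U (preimage_eq hpo U) s t ?_
  have h' := congrArg (Z.presheaf.map (eqToHom (preimage_eq hpo U).symm).op) h
  rw [← CommRingCat.comp_apply, ← CommRingCat.comp_apply, Scheme.Hom.appLE_map, Scheme.Hom.appLE_map] at h'
  refine Eq.trans ?_ (h'.trans ?_)
  · show ((ι.app (π ⁻¹ᵁ U)) ≫ Z.presheaf.map (eqToHom (preimage_eq hpo U).symm).op) s = _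
    rfl
  · rw [Scheme.Hom.appLE_eq_app]
    rfl

section Algebra

variable [IsClosedImmersion ι]

include hpo in
/-- On affine opens with affine preimage a pushout gives a Milnor square. -/
theorem isFibreSquare (V : X'.Opens) (hV : IsAffineOpen (π ⁻¹ᵁ V)) :
    letI := (ι'.appLE V (ι' ⁻¹ᵁ V) le_rfl).hom.toAlgebra
    letI := (π.appLE V (π ⁻¹ᵁ V) le_rfl).hom.toAlgebra
    letI := (q.appLE (ι' ⁻¹ᵁ V) (ι ⁻¹ᵁ π ⁻¹ᵁ V) (preimage_eq hpo V).le).hom.toAlgebra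
    letI := (ι.appLE (π ⁻¹ᵁ V) (ι ⁻¹ᵁ π ⁻¹ᵁ V) le_rfl).hom.toAlgebra
    letI := ((ι ≫ π).appLE V (ι ⁻¹ᵁ π ⁻¹ᵁ V) le_rfl).hom.toAlgebra
    ∃ (_ : IsScalarTower Γ(X', V) Γ(Z', ι' ⁻¹ᵁ V) Γ(Z, ι ⁻¹ᵁ π ⁻¹ᵁ V))
      (_ : IsScalarTower Γ(X', V) Γ(X, π ⁻¹ᵁ V) Γ(Z, ι ⁻¹ᵁ π ⁻¹ᵁ V)),
      EtMil.IsFibreSquare Γ(X', V) Γ(Z', ι' ⁻¹ᵁ V) Γ(X, π ⁻¹ᵁ V) Γ(Z, ι ⁻¹ᵁ π ⁻¹ᵁ V) := by
  letI := (ι'.appLE V (ι' ⁻¹ᵁ V) le_rfl).hom.toAlgebra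
  letI := (π.appLE V (π ⁻¹ᵁ V) le_rfl).hom.toAlgebra
  letI := (q.appLE (ι' ⁻¹ᵁ V) (ι ⁻¹ᵁ π ⁻¹ᵁ V) (preimage_eq hpo V).le).hom.toAlgebra
  letI := (ι.appLE (π ⁻¹ᵁ V) (ι ⁻¹ᵁ π ⁻¹ᵁ V) le_rfl).hom.toAlgebra
  letI := ((ι ≫ π).appLE V (ι ⁻¹ᵁ π ⁻¹ᵁ V) le_rfl).hom.toAlgebra
  have t1 : IsScalarTower Γ(X', V) Γ(Z', ι' ⁻¹ᵁ V) Γ(Z, ι ⁻¹ᵁ π ⁻¹ᵁ V) :=
    IsScalarTower.of_algebraMap_eq' (congrArg CommRingCat.Hom.hom (by
      have key : ∀ (k k' : Z ⟶ X') (_ : k = k') (e : ι ⁻¹ᵁ π ⁻¹ᵁ V ≤ k ⁻¹ᵁ V)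
          (e' : ι ⁻¹ᵁ π ⁻¹ᵁ V ≤ k' ⁻¹ᵁ V), k.appLE V _ e = k'.appLE V _ e' := by
        rintro k k' rfl e e'
        rfl
      exact (key _ _ (w_of_ringed hpo) le_rfl (preimage_eq hpo V).le).trans
        (Scheme.Hom.appLE_comp_appLE q ι' V (ι' ⁻¹ᵁ V) _ le_rfl (preimage_eq hpo V).le).symm))
  have t2 : IsScalarTower Γ(X', V) Γ(X, π ⁻¹ᵁ V) Γ(Z, ι ⁻¹ᵁ π ⁻¹ᵁ V) :=
    IsScalarTower.of_algebraMap_eq' (congrArg CommRingCat.Hom.hom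
      (Scheme.Hom.appLE_comp_appLE ι π V (π ⁻¹ᵁ V) (ι ⁻¹ᵁ π ⁻¹ᵁ V) le_rfl le_rfl).symm)
  refine ⟨t1, t2, ?_, fun b a hab => ?_⟩
  · show Function.Surjective (ι.appLE (π ⁻¹ᵁ V) (ι ⁻¹ᵁ π ⁻¹ᵁ V) le_rfl).hom
    rw [Scheme.Hom.appLE_eq_app]
    exact ι.app_surjective _ hV
  · obtain ⟨x, hxa, hxb⟩ := sections_exists hpo V a b hab.symm
    have e1 : ∀ z, algebraMap Γ(X', V) Γ(Z', ι' ⁻¹ᵁ V) z = ι'.app V z := fun z =>
      congrArg (fun k => k z) (Scheme.Hom.appLE_eq_app ι')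
    have e2 : ∀ z, algebraMap Γ(X', V) Γ(X, π ⁻¹ᵁ V) z = π.app V z := fun z =>
      congrArg (fun k => k z) (Scheme.Hom.appLE_eq_app π)
    refine ⟨x, ⟨(e1 x).trans hxb, (e2 x).trans hxa⟩, fun y hy => ?_⟩
    exact sections_injective hpo V y x (((e2 y).symm.trans hy.2).trans hxa.symm)
      (((e1 y).symm.trans hy.1).trans hxb.symm)

end Algebra

end Groth.Agent.PinchLib
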