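import Groth.Agent.PinchLib.StdPushout
import Groth.Agent.PinchLib.SchemePushout
import Mathlib.Geometry.RingedSpace.LocallyRingedSpace.HasColimits

/-!
# Pushouts of schemes along closed immersions are pushouts of ringed spaces
-/

set_option autoImplicit false
set_option linter.unusedSectionVars false

universe u

open CategoryTheory Limits AlgebraicGeometry TopologicalSpace Opposite

namespace Groth.Agent.PinchLib.StdRinged

open FlatMisc.SchemePushout in
/-- The glued model is a pushout of schemes and of ringed spaces. -/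
theorem exists_pushout {X Y Z : Scheme.{u}} (i : Z ⟶ X) (j : Z ⟶ Y) [IsClosedImmersion i]
    (hc : ∀ y : Y, ∃ (U : X.Opens) (V : Y.Opens), IsAffineOpen U ∧ IsAffineOpen V ∧ y ∈ V ∧
      i ⁻¹ᵁ U = j ⁻¹ᵁ V) :
    ∃ (P : Scheme.{u}) (a : X ⟶ P) (b : Y ⟶ P), IsPushout i j a b ∧
      IsPushout (toSh.map i) (toSh.map j) (toSh.map a) (toSh.map b) := by
  have hpo := IsPushout.of_hasPushout (C := LocallyRingedSpace.{u}) i.toLRSHom j.toLRSHom
  set PL := pushout i.toLRSHom j.toLRSHom
  set aL := pushout.inl i.toLRSHom j.toLRSHom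
  set bL := pushout.inr i.toLRSHom j.toLRSHom
  have cov : ∀ p : PL, ∃ W : Opens PL, p ∈ W ∧ IsAffineOpen ((Opens.map aL.base).obj W) ∧
      IsAffineOpen ((Opens.map bL.base).obj W) := by
    intro p
    have hy : ∀ y : Y, ∃ W : Opens PL, bL.base y ∈ W ∧ IsAffineOpen ((Opens.map aL.base).obj W) ∧
        IsAffineOpen ((Opens.map bL.base).obj W) := by
      intro y
      obtain ⟨U, V, hU, hV, hy, e⟩ := hc y
      obtain ⟨W, hWa, hWb⟩ := exists_open i j hpo U V e
      refine ⟨W, ?_, hWa ▸ hU, hWb ▸ hV⟩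
      show y ∈ (Opens.map bL.base).obj W
      rw [hWb]
      exact hy
    rcases jointly_surjective i j hpo p with ⟨x, rfl⟩ | ⟨y, rfl⟩
    · by_cases hx : x ∈ Set.range i
      · obtain ⟨z, rfl⟩ := hx
        have : aL.base (i z) = bL.base (j z) :=
          congrArg (fun k : Z.toLocallyRingedSpace ⟶ PL => k.base z) hpo.w
        rw [this]
        exact hy (j z)
      · obtain ⟨U, hU, hxU, hle⟩ := exists_isAffineOpen_mem_and_subset
          (U := ⟨(Set.range i)ᶜ, i.isClosedEmbedding.isClosed_range.isOpen_compl⟩) hx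
        obtain ⟨W, hWa, hWb⟩ := exists_open i j hpo U ⊥ (by
          ext z
          exact iff_of_false (fun h => hle h ⟨z, rfl⟩) (fun h => h))
        refine ⟨W, ?_, hWa ▸ hU, hWb ▸ isAffineOpen_bot Y⟩
        show x ∈ (Opens.map aL.base).obj W
        rw [hWa]
        exact hxU
    · exact hy y
  let P : Scheme.{u} :=
    { toLocallyRingedSpace := PL
      local_affine := fun p => by
        obtain ⟨W, hp, ha, hb⟩ := cov p
        have h := local_affine_aux i j hpo W ha hb
        exact ⟨⟨W, hp⟩, LocallyRingedSpace.Γ.obj (op (res W)), ⟨@asIso _ _ _ _ _ h⟩⟩ }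
  let a : X ⟶ P := ⟨aL⟩
  let b : Y ⟶ P := ⟨bL⟩
  have hsq : IsPushout i j a b := by
    refine IsPushout.of_map Scheme.forgetToLocallyRingedSpace ?_ hpo
    exact Scheme.forgetToLocallyRingedSpace.map_injective hpo.w
  exact ⟨P, a, b, hsq, hpo.map LocallyRingedSpace.forgetToSheafedSpace⟩

/-- A pushout of schemes along a closed immersion with the covering condition is a pushout of
ringed spaces. -/
theorem isPushout_toSh {X T Z P : Scheme.{u}} {ι : Z ⟶ X} {ξ : Z ⟶ T} [IsClosedImmersion ι]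
    (hc : ∀ y : T, ∃ (U : X.Opens) (V : T.Opens), IsAffineOpen U ∧ IsAffineOpen V ∧ y ∈ V ∧
      ι ⁻¹ᵁ U = ξ ⁻¹ᵁ V)
    {a : X ⟶ P} {b : T ⟶ P} (hP : IsPushout ι ξ a b) :
    IsPushout (toSh.map ι) (toSh.map ξ) (toSh.map a) (toSh.map b) := by
  obtain ⟨Q, a', b', h', hQ⟩ := exists_pushout ι ξ hc
  refine hQ.of_iso (Iso.refl _) (Iso.refl _) (Iso.refl _) (toSh.mapIso (h'.isoIsPushout _ _ hP))
    (by simp) (by simp) ?_ ?_
  · rw [Iso.refl_hom, Category.id_comp, Functor.mapIso_hom, ← Functor.map_comp,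
      IsPushout.inl_isoIsPushout_hom]
  · rw [Iso.refl_hom, Category.id_comp, Functor.mapIso_hom, ← Functor.map_comp,
      IsPushout.inr_isoIsPushout_hom]

/-- A square of schemes which is a pushout of ringed spaces is a pushout of schemes. -/
theorem isPushout_of_toSh {X T Z P : Scheme.{u}} {ι : Z ⟶ X} {ξ : Z ⟶ T} {a : X ⟶ P} {b : T ⟶ P}
    (h : IsPushout (toSh.map ι) (toSh.map ξ) (toSh.map a) (toSh.map b)) : IsPushout ι ξ a b := by
  have w : ι ≫ a = ξ ≫ b := w_of_ringed h
  haveI : ReflectsColimitsOfShape WalkingSpan LocallyRingedSpace.forgetToSheafedSpace.{u} :=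
    reflectsColimitsOfShape_of_reflectsIsomorphisms
  refine IsPushout.of_map Scheme.forgetToLocallyRingedSpace w ?_
  exact IsPushout.of_map LocallyRingedSpace.forgetToSheafedSpace
    (by rw [← Functor.map_comp, ← Functor.map_comp, w]) h

end Groth.Agent.PinchLib.StdRinged

namespace Groth.Agent.PinchLib.StdRinged

/-- A pushout of ringed spaces is a pushout of locally ringed spaces. -/
theorem isPushout_lrs {X T Z P : Scheme.{u}} {ι : Z ⟶ X} {ξ : Z ⟶ T} {a : X ⟶ P} {b : T ⟶ P}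
    (h : IsPushout (toSh.map ι) (toSh.map ξ) (toSh.map a) (toSh.map b)) :
    IsPushout ι.toLRSHom ξ.toLRSHom a.toLRSHom b.toLRSHom := by
  haveI : ReflectsColimitsOfShape WalkingSpan LocallyRingedSpace.forgetToSheafedSpace.{u} :=
    reflectsColimitsOfShape_of_reflectsIsomorphisms
  exact IsPushout.of_map LocallyRingedSpace.forgetToSheafedSpace
    (congrArg Scheme.Hom.toLRSHom (w_of_ringed h)) h

/-- An open of the corner with prescribed compatible affine traces is affine. -/
theorem exists_affineOpen {X T Z P : Scheme.{u}} {ι : Z ⟶ X} {ξ : Z ⟶ T} [IsClosedImmersion ι]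
    {a : X ⟶ P} {b : T ⟶ P}
    (h : IsPushout (toSh.map ι) (toSh.map ξ) (toSh.map a) (toSh.map b))
    {U : X.Opens} (hU : IsAffineOpen U) {V : T.Opens} (hV : IsAffineOpen V)
    (e : ι ⁻¹ᵁ U = ξ ⁻¹ᵁ V) :
    ∃ W : P.Opens, IsAffineOpen W ∧ a ⁻¹ᵁ W = U ∧ b ⁻¹ᵁ W = V := by
  have hpo := isPushout_lrs h
  obtain ⟨W, hWa, hWb⟩ := FlatMisc.SchemePushout.exists_open ι ξ hpo U V e
  refine ⟨W, ?_, hWa, hWb⟩
  haveI := FlatMisc.SchemePushout.local_affine_aux ι ξ hpo W (hWa ▸ hU) (hWb ▸ hV)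
  show IsAffine (Scheme.Opens.toScheme (X := P) W)
  exact IsAffine.of_isIso ((Scheme.forgetToLocallyRingedSpace.preimageIso
    (X := (Scheme.Opens.toScheme (X := P) W)) (Y := Spec (LocallyRingedSpace.Γ.obj (op (FlatMisc.SchemePushout.res W))))
    (@asIso _ _ _ _ _ (FlatMisc.SchemePushout.local_affine_aux ι ξ hpo W (hWa ▸ hU) (hWb ▸ hV)))).hom)

end Groth.Agent.PinchLib.StdRinged
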