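import Groth.Agent.FlatMisc.SchemePushout
import Mathlib.AlgebraicGeometry.Morphisms.Finite
import Mathlib.AlgebraicGeometry.Morphisms.Proper
import Mathlib.AlgebraicGeometry.IdealSheaf.Functorial

/-!
# Pushouts along a closed immersion of schemes affine over a base
-/

set_option autoImplicit false

universe u

open CategoryTheory Limits AlgebraicGeometry TopologicalSpace

namespace Groth.Agent.PinchLib.StdPushout

variable {X Y T Z P : Scheme.{u}}

/-- The covering condition: the image of the part of `Z` over `U` lies in an affine open. -/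
theorem exists_cover (f : X ⟶ Y) (t : T ⟶ Y) (ξ : Z ⟶ T) (ι : Z ⟶ X) [IsAffineHom t]
    (hsq : ι ≫ f = ξ ≫ t)
    (hstd : ∀ y : Y, ∃ U : Y.Opens, IsAffineOpen U ∧ y ∈ U ∧ ∃ V : X.Opens, IsAffineOpen V ∧
      V ≤ f ⁻¹ᵁ U ∧ ∀ z : Z, (ξ ≫ t).base z ∈ U → ι.base z ∈ V) (y : T) :
    ∃ (U : X.Opens) (V : T.Opens), IsAffineOpen U ∧ IsAffineOpen V ∧ y ∈ V ∧ ι ⁻¹ᵁ U = ξ ⁻¹ᵁ V := by
  obtain ⟨U, hU, hy, V, hV, hle, hz⟩ := hstd (t y)
  refine ⟨V, t ⁻¹ᵁ U, hV, hU.preimage t, hy, Opens.ext (Set.ext fun z => ⟨fun h => ?_, hz z⟩)⟩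
  show (ξ ≫ t) z ∈ U
  rw [← hsq]
  exact hle h

/-- What a pushout along a closed immersion inherits from the glued model. -/
theorem props (ι : Z ⟶ X) (ξ : Z ⟶ T) [IsClosedImmersion ι] [IsIntegralHom ξ]
    (hc : ∀ y : T, ∃ (U : X.Opens) (V : T.Opens), IsAffineOpen U ∧ IsAffineOpen V ∧ y ∈ V ∧
      ι ⁻¹ᵁ U = ξ ⁻¹ᵁ V)
    {a : X ⟶ P} {b : T ⟶ P} (hP : IsPushout ι ξ a b) :
    IsPullback ι ξ a b ∧ IsClosedImmersion b ∧ IsIntegralHom a ∧
      ∀ p : P, (∃ x, a x = p) ∨ ∃ y, b y = p := by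
  obtain ⟨Q, a', b', h', hpb, hb, ha, -, hs⟩ := FlatMisc.SchemePushout.exists_pushout ι ξ hc
  let e := h'.isoIsPushout _ _ hP
  have ea : a' ≫ e.hom = a := h'.inl_isoIsPushout_hom _ _ hP
  have eb : b' ≫ e.hom = b := h'.inr_isoIsPushout_hom _ _ hP
  haveI := hb
  haveI := ha inferInstance
  refine ⟨hpb.of_iso (Iso.refl _) (Iso.refl _) (Iso.refl _) e (by simp) (by simp)
    (by simpa using ea) (by simpa using eb), eb ▸ inferInstance, ea ▸ inferInstance, fun p => ?_⟩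
  have he : e.hom (e.inv p) = p := by
    rw [← Scheme.Hom.comp_apply, e.inv_hom_id]
    rfl
  rcases hs (e.inv p) with ⟨x, hx⟩ | ⟨x, hx⟩
  · refine Or.inl ⟨x, ?_⟩
    rw [← ea, Scheme.Hom.comp_apply, hx, he]
  · refine Or.inr ⟨x, ?_⟩
    rw [← eb, Scheme.Hom.comp_apply, hx, he]

/-- The two legs of a pushout of schemes are jointly schematically dominant. -/
theorem ker_inf_eq_bot {ι : Z ⟶ X} {ξ : Z ⟶ T} {a : X ⟶ P} {b : T ⟶ P} (hP : IsPushout ι ξ a b) :
    a.ker ⊓ b.ker = ⊥ := by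
  set I := a.ker ⊓ b.ker with hI
  have h1 : I.subschemeι.ker ≤ a.ker := by
    rw [Scheme.IdealSheafData.ker_subschemeι, hI]
    exact inf_le_left
  have h2 : I.subschemeι.ker ≤ b.ker := by
    rw [Scheme.IdealSheafData.ker_subschemeι, hI]
    exact inf_le_right
  let a' := IsClosedImmersion.lift I.subschemeι a h1
  let b' := IsClosedImmersion.lift I.subschemeι b h2
  have w : ι ≫ a' = ξ ≫ b' := by
    rw [← cancel_mono I.subschemeι, Category.assoc, Category.assoc, IsClosedImmersion.lift_fac,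
      IsClosedImmersion.lift_fac, hP.w]
  have hs : hP.desc a' b' w ≫ I.subschemeι = 𝟙 P := by
    refine hP.hom_ext ?_ ?_
    · rw [IsPushout.inl_desc_assoc, IsClosedImmersion.lift_fac, Category.comp_id]
    · rw [IsPushout.inr_desc_assoc, IsClosedImmersion.lift_fac, Category.comp_id]
  haveI : IsSplitEpi I.subschemeι := IsSplitEpi.mk' ⟨_, hs⟩
  haveI : IsIso I.subschemeι := isIso_of_mono_of_isSplitEpi _
  rw [← Scheme.IdealSheafData.ker_subschemeι I]
  exact Scheme.Hom.ker_eq_bot_of_isIso _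

/-- A section over an affine open is determined by its two restrictions. -/
theorem eq_zero_of_app_eq_zero {ι : Z ⟶ X} {ξ : Z ⟶ T} {a : X ⟶ P} {b : T ⟶ P}
    [QuasiCompact a] [QuasiCompact b] (hP : IsPushout ι ξ a b) (W : P.affineOpens) (x : Γ(P, W))
    (hX : a.app W x = 0) (hT : b.app W x = 0) : x = 0 := by
  have h : x ∈ (a.ker ⊓ b.ker).ideal W := by
    rw [Scheme.IdealSheafData.ideal_inf, Pi.inf_apply, Submodule.mem_inf, Scheme.Hom.ker_apply,
      Scheme.Hom.ker_apply, RingHom.mem_ker, RingHom.mem_ker]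
    exact ⟨hX, hT⟩
  rw [ker_inf_eq_bot hP] at h
  simpa [Scheme.IdealSheafData.ideal_bot] using h

section FiniteType

variable {ι : Z ⟶ X} {ξ : Z ⟶ T} {a : X ⟶ P} {b : T ⟶ P} (hP : IsPushout ι ξ a b) (p : P ⟶ Y)

include hP in
/-- Artin-Tate: the corner is locally of finite type over a locally noetherian base. -/
theorem locallyOfFiniteType [IsLocallyNoetherian Y] [IsFinite a] [IsClosedImmersion b]
    [LocallyOfFiniteType (a ≫ p)] [LocallyOfFiniteType (b ≫ p)] : LocallyOfFiniteType p := by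
  refine ⟨fun {U} hU {V} hV e => ?_⟩
  have hA : RingHom.FiniteType (((a ≫ p).appLE U (a ⁻¹ᵁ V) (a.preimage_mono e)).hom) :=
    LocallyOfFiniteType.finiteType_appLE (f := a ≫ p) hU (hV.preimage a) _
  have hB : RingHom.FiniteType (((b ≫ p).appLE U (b ⁻¹ᵁ V) (b.preimage_mono e)).hom) :=
    LocallyOfFiniteType.finiteType_appLE (f := b ≫ p) hU (hV.preimage b) _
  letI : Algebra Γ(Y, U) Γ(P, V) := (p.appLE U V e).hom.toAlgebra
  letI : Algebra Γ(P, V) Γ(X, a ⁻¹ᵁ V) := (a.app V).hom.toAlgebra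
  letI : Algebra Γ(P, V) Γ(T, b ⁻¹ᵁ V) := (b.app V).hom.toAlgebra
  letI : Algebra Γ(Y, U) Γ(X, a ⁻¹ᵁ V) := ((a ≫ p).appLE U (a ⁻¹ᵁ V) (a.preimage_mono e)).hom.toAlgebra
  letI : Algebra Γ(Y, U) Γ(T, b ⁻¹ᵁ V) := ((b ≫ p).appLE U (b ⁻¹ᵁ V) (b.preimage_mono e)).hom.toAlgebra
  haveI : IsScalarTower Γ(Y, U) Γ(P, V) Γ(X, a ⁻¹ᵁ V) := IsScalarTower.of_algebraMap_eq' (by
    have h := Scheme.Hom.appLE_comp_appLE a p U V (a ⁻¹ᵁ V) e le_rfl
    rw [Scheme.Hom.appLE_eq_app] at h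
    exact congrArg CommRingCat.Hom.hom h.symm)
  haveI : IsScalarTower Γ(Y, U) Γ(P, V) Γ(T, b ⁻¹ᵁ V) := IsScalarTower.of_algebraMap_eq' (by
    have h := Scheme.Hom.appLE_comp_appLE b p U V (b ⁻¹ᵁ V) e le_rfl
    rw [Scheme.Hom.appLE_eq_app] at h
    exact congrArg CommRingCat.Hom.hom h.symm)
  haveI : Algebra.FiniteType Γ(Y, U) Γ(X, a ⁻¹ᵁ V) := hA
  haveI : Algebra.FiniteType Γ(Y, U) Γ(T, b ⁻¹ᵁ V) := hB
  haveI : Module.Finite Γ(P, V) Γ(X, a ⁻¹ᵁ V) := IsFinite.finite_app a V hV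
  haveI : Module.Finite Γ(P, V) Γ(T, b ⁻¹ᵁ V) :=
    Module.Finite.of_surjective (Algebra.linearMap Γ(P, V) Γ(T, b ⁻¹ᵁ V)) (b.app_surjective V hV)
  haveI : IsNoetherianRing Γ(Y, U) := IsLocallyNoetherian.component_noetherian ⟨U, hU⟩
  show Algebra.FiniteType Γ(Y, U) Γ(P, V)
  refine ⟨fg_of_fg_of_fg Γ(Y, U) Γ(P, V) (Γ(X, a ⁻¹ᵁ V) × Γ(T, b ⁻¹ᵁ V))
    Algebra.FiniteType.out Module.Finite.fg_top fun x y hxy => ?_⟩
  rw [← sub_eq_zero]
  refine eq_zero_of_app_eq_zero hP ⟨V, hV⟩ _ ?_ ?_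
  · rw [map_sub, sub_eq_zero]
    exact congrArg Prod.fst hxy
  · rw [map_sub, sub_eq_zero]
    exact congrArg Prod.snd hxy

end FiniteType

variable (a : X ⟶ P) (b : T ⟶ P) (hs : ∀ q : P, (∃ x, a x = q) ∨ ∃ y, b y = q) (p : P ⟶ Y)

include hs in
/-- A scheme covered by two quasi-compact pieces is quasi-compact over the base. -/
theorem quasiCompact [QuasiCompact (a ≫ p)] [QuasiCompact (b ≫ p)] : QuasiCompact p := by
  refine ⟨fun U hU hc => ?_⟩
  have e : p ⁻¹' U = a '' ((a ≫ p) ⁻¹' U) ∪ b '' ((b ≫ p) ⁻¹' U) := by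
    ext q
    constructor
    · intro hq
      rcases hs q with ⟨x, rfl⟩ | ⟨x, rfl⟩
      · exact Or.inl ⟨x, hq, rfl⟩
      · exact Or.inr ⟨x, hq, rfl⟩
    · rintro (⟨x, hx, rfl⟩ | ⟨x, hx, rfl⟩) <;> exact hx
  rw [e]
  exact ((QuasiCompact.isCompact_preimage (f := a ≫ p) U hU hc).image a.continuous).union
    ((QuasiCompact.isCompact_preimage (f := b ≫ p) U hU hc).image b.continuous)

include hs in
/-- A scheme covered by two universally closed pieces is universally closed over the base. -/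
theorem universallyClosed [UniversallyClosed (a ≫ p)] [UniversallyClosed (b ≫ p)] :
    UniversallyClosed p := by
  refine ⟨fun W Y' i₁ i₂ p' hpb S hS => ?_⟩
  have hX := UniversallyClosed.universally_isClosedMap (f := a ≫ p) _ _ _
    ((IsPullback.of_hasPullback i₁ a).paste_horiz hpb)
  have hT := UniversallyClosed.universally_isClosedMap (f := b ≫ p) _ _ _
    ((IsPullback.of_hasPullback i₁ b).paste_horiz hpb)
  have e : p' '' S = (pullback.fst i₁ a ≫ p') '' (pullback.fst i₁ a ⁻¹' S) ∪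
      (pullback.fst i₁ b ≫ p') '' (pullback.fst i₁ b ⁻¹' S) := by
    ext y
    constructor
    · rintro ⟨w, hw, rfl⟩
      rcases hs (i₁ w) with ⟨x, hx⟩ | ⟨x, hx⟩
      · obtain ⟨z, hz, -⟩ := Scheme.Pullback.exists_preimage_pullback (f := i₁) (g := a) w x hx.symm
        exact Or.inl ⟨z, by rw [Set.mem_preimage, hz]; exact hw, by rw [Scheme.Hom.comp_apply, hz]⟩
      · obtain ⟨z, hz, -⟩ := Scheme.Pullback.exists_preimage_pullback (f := i₁) (g := b) w x hx.symm
        exact Or.inr ⟨z, by rw [Set.mem_preimage, hz]; exact hw, by rw [Scheme.Hom.comp_apply, hz]⟩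
    · rintro (⟨z, hz, rfl⟩ | ⟨z, hz, rfl⟩) <;> exact ⟨_, hz, rfl⟩
  rw [e]
  exact (hX _ (hS.preimage (pullback.fst i₁ a).continuous)).union
    (hT _ (hS.preimage (pullback.fst i₁ b).continuous))

include hs in
/-- A scheme covered by two finite separated pieces is separated over the base. -/
theorem isSeparated [IsFinite a] [IsFinite b] [IsSeparated (a ≫ p)] [IsSeparated (b ≫ p)] :
    IsSeparated p := by
  refine ⟨IsClosedImmersion.of_isPreimmersion _ ?_⟩
  have key : ∀ {S : Scheme.{u}} (c : S ⟶ P), IsFinite c → IsSeparated (c ≫ p) →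
      IsClosed (Set.range (c ≫ pullback.diagonal p)) := by
    intro S c hc hsep
    let m := pullback.map (c ≫ p) (c ≫ p) p p c c (𝟙 Y) (Category.comp_id _) (Category.comp_id _)
    haveI : IsFinite m := MorphismProperty.pullback_map (P := @IsFinite) hc hc rfl rfl
    have he : c ≫ pullback.diagonal p = pullback.diagonal (c ≫ p) ≫ m := by
      apply pullback.hom_ext
      · rw [Category.assoc, pullback.diagonal_fst, Category.comp_id, Category.assoc]
        simp only [m, pullback.map]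
        erw [pullback.lift_fst, pullback.diagonal_fst_assoc]
      · rw [Category.assoc, pullback.diagonal_snd, Category.comp_id, Category.assoc]
        simp only [m, pullback.map]
        erw [pullback.lift_snd, pullback.diagonal_snd_assoc]
    rw [he]
    exact (pullback.diagonal (c ≫ p) ≫ m).isClosedMap.isClosed_range
  have e : Set.range (pullback.diagonal p) =
      Set.range (a ≫ pullback.diagonal p) ∪ Set.range (b ≫ pullback.diagonal p) := by
    ext w
    constructor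
    · rintro ⟨q, rfl⟩
      rcases hs q with ⟨x, rfl⟩ | ⟨x, rfl⟩
      · exact Or.inl ⟨x, rfl⟩
      · exact Or.inr ⟨x, rfl⟩
    · rintro (⟨x, rfl⟩ | ⟨x, rfl⟩) <;> exact ⟨_, rfl⟩
  rw [e]
  exact (key a inferInstance inferInstance).union (key b inferInstance inferInstance)

end Groth.Agent.PinchLib.StdPushout
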