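import Mathlib.Geometry.RingedSpace.PresheafedSpace.HasColimits
import Mathlib.Geometry.RingedSpace.SheafedSpace
import Mathlib.AlgebraicGeometry.Scheme
import Mathlib.Topology.Order
import Mathlib.Topology.Separation.Basic
import Mathlib.Algebra.MvPolynomial.Eval
import Mathlib.CategoryTheory.Limits.Shapes.Pullback.IsPullback.BicartesianSq

/-!
# Sections of a pushout of ringed spaces

Morphisms into the presheafed space `sier` are pairs of an open and a section over it, so the
sections of a pushout over an open are the compatible pairs of sections.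
-/

set_option autoImplicit false
set_option backward.isDefEq.respectTransparency false

universe u

open CategoryTheory Limits TopologicalSpace Opposite AlgebraicGeometry

namespace Groth.Agent.PinchLib

lemma ringHom_C_eq {σ : Type} {R : Type u} [CommRing R] (φ ψ : MvPolynomial σ (ULift.{u} ℤ) →+* R)
    (x : ULift.{u} ℤ) : φ (MvPolynomial.C x) = ψ (MvPolynomial.C x) :=
  RingHom.congr_fun (RingHom.ext_int
    ((φ.comp MvPolynomial.C).comp (ULift.ringEquiv.{0, u} (R := ℤ)).symm.toRingHom)
    ((ψ.comp MvPolynomial.C).comp (ULift.ringEquiv.{0, u} (R := ℤ)).symm.toRingHom)) x.down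

/-- The Sierpiński space. -/
abbrev sierTop : TopCat.{u} := TopCat.of (ULift.{u} Prop)

/-- Its open point. -/
def sierOpen : Opens sierTop.{u} :=
  ⟨{p | p.down}, by
    have := (continuous_Prop.mp (continuous_uliftDown : Continuous (ULift.down : ULift.{u} Prop → Prop)))
    exact this⟩

/-- The presheaf of the test space: free rings on the presence of the closed point. -/
noncomputable def sierPresheaf : (Opens sierTop.{u})ᵒᵖ ⥤ CommRingCat.{u} where
  obj V := CommRingCat.of (MvPolynomial (PLift (⟨False⟩ ∉ V.unop)) (ULift.{u} ℤ))
  map {V W} f := CommRingCat.ofHom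
    (MvPolynomial.rename fun h : PLift (⟨False⟩ ∉ V.unop) =>
      (⟨fun hm => h.down (f.unop.le hm)⟩ : PLift (⟨False⟩ ∉ W.unop))).toRingHom
  map_id V := by
    ext1
    exact MvPolynomial.ringHom_ext (fun r => MvPolynomial.rename_C _ r) fun h =>
      MvPolynomial.rename_X _ h
  map_comp f g := by
    ext1
    refine MvPolynomial.ringHom_ext (fun r => ?_) fun h => ?_
    · simp
    · simp

/-- The test space. -/
noncomputable def sier : PresheafedSpace.{_, _, u} CommRingCat.{u} :=
  ⟨sierTop, sierPresheaf⟩

variable {Y Z : PresheafedSpace.{_, _, u} CommRingCat.{u}}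

/-- The indicator of an open. -/
def indicator (W : Opens Y.carrier) : Y.carrier ⟶ sierTop :=
  TopCat.ofHom ⟨fun y => ⟨y ∈ W⟩, continuous_uliftUp.comp (continuous_Prop.mpr W.isOpen)⟩

lemma indicator_le (W : Opens Y.carrier) {V : Opens sierTop.{u}} (h : ⟨False⟩ ∉ V) :
    (Opens.map (indicator W)).obj V ≤ W := by
  intro y hy
  by_contra hc
  exact h ((show (⟨y ∈ W⟩ : ULift.{u} Prop) = ⟨False⟩ from ULift.ext _ _ (eq_false hc)) ▸ hy)

/-- The morphism to the test space given by an open and a section over it. -/
noncomputable def toSier (W : Opens Y.carrier) (s : Y.presheaf.obj (op W)) : Y ⟶ sier where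
  base := indicator W
  c :=
    { app := fun V => CommRingCat.ofHom
        (MvPolynomial.eval₂Hom ((Int.castRingHom _).comp ULift.ringEquiv.toRingHom)
          fun h : PLift (⟨False⟩ ∉ V.unop) =>
            Y.presheaf.map (homOfLE (indicator_le W h.down)).op s)
      naturality := fun V V' f => by
        ext1
        refine MvPolynomial.ringHom_ext (fun r => ?_) fun h => ?_
        · simp [sier, sierPresheaf]
        · simp only [sier, sierPresheaf, CommRingCat.hom_comp, CommRingCat.hom_ofHom,
            RingHom.comp_apply, AlgHom.toRingHom_eq_coe, RingHom.coe_coe, MvPolynomial.rename_X]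
          erw [MvPolynomial.eval₂Hom_X', MvPolynomial.eval₂Hom_X']
          exact CategoryTheory.congr_fun (Y.presheaf.map_comp (homOfLE (indicator_le W h.down)).op
            ((Opens.map (indicator W)).map f.unop).op) s }

/-- The section classified by a morphism to the test space. -/
noncomputable def sierSec (h : Y ⟶ sier) : Y.presheaf.obj (op ((Opens.map h.base).obj sierOpen)) :=
  h.c.app (op sierOpen) (MvPolynomial.X ⟨id⟩)

lemma sierSec_toSier (W : Opens Y.carrier) (s : Y.presheaf.obj (op W)) :
    sierSec (toSier W s) = s := by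
  refine (MvPolynomial.eval₂Hom_X' _ _ _).trans ?_
  exact CategoryTheory.congr_fun (Y.presheaf.map_id (op W)) s

lemma comp_toSier (f : Y ⟶ Z) (W : Opens Z.carrier) (s : Z.presheaf.obj (op W)) :
    f ≫ toSier W s = toSier ((Opens.map f.base).obj W) (f.c.app (op W) s) := by
  refine PresheafedSpace.ext _ _ rfl (NatTrans.ext (funext fun V => ?_))
  ext1
  refine MvPolynomial.ringHom_ext (fun r => ?_) fun h => ?_
  · exact ringHom_C_eq _ _ r
  · simp only [eqToHom_refl, Functor.whiskerRight_id', Category.comp_id]
    show f.c.app _ (((toSier W s).c.app V).hom (MvPolynomial.X h)) =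
      ((toSier _ (f.c.app (op W) s)).c.app V).hom (MvPolynomial.X h)
    erw [MvPolynomial.eval₂Hom_X', MvPolynomial.eval₂Hom_X']
    exact CategoryTheory.congr_fun (f.c.naturality (homOfLE (indicator_le W h.down)).op) s

lemma toSier_congr {W W' : Opens Y.carrier} (e : W = W') (s : Y.presheaf.obj (op W))
    (s' : Y.presheaf.obj (op W')) (hs : Y.presheaf.map (eqToHom e.symm).op s = s') :
    toSier W s = toSier W' s' := by
  subst e
  rw [← hs]
  simp

section Pushout

variable {A B C P : PresheafedSpace.{_, _, u} CommRingCat.{u}}
  {i : C ⟶ A} {j : C ⟶ B} {a : A ⟶ P} {b : B ⟶ P}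

/-- A section of a pushout is determined by its restrictions. -/
theorem pushout_sections_injective (h : IsPushout i j a b) (U : Opens P.carrier)
    (x y : P.presheaf.obj (op U)) (ha : a.c.app (op U) x = a.c.app (op U) y)
    (hb : b.c.app (op U) x = b.c.app (op U) y) : x = y := by
  have e : toSier U x = toSier U y :=
    h.hom_ext (by rw [comp_toSier, comp_toSier, ha]) (by rw [comp_toSier, comp_toSier, hb])
  have key : ∀ f g : P ⟶ sier, f = g → HEq (sierSec f) (sierSec g) := by
    rintro f g rfl
    rfl
  have := key _ _ e
  rw [sierSec_toSier, sierSec_toSier] at this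
  exact eq_of_heq this

/-- Compatible sections glue to a section of the pushout. -/
theorem pushout_sections_exists (h : IsPushout i j a b) (U : Opens P.carrier)
    (e : (Opens.map i.base).obj ((Opens.map a.base).obj U) =
      (Opens.map j.base).obj ((Opens.map b.base).obj U))
    (s : A.presheaf.obj (op ((Opens.map a.base).obj U)))
    (t : B.presheaf.obj (op ((Opens.map b.base).obj U)))
    (hst : C.presheaf.map (eqToHom e.symm).op (i.c.app _ s) = j.c.app _ t) :
    ∃ x : P.presheaf.obj (op U), a.c.app (op U) x = s ∧ b.c.app (op U) x = t := by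
  have hw : i ≫ toSier _ s = j ≫ toSier _ t := by
    rw [comp_toSier, comp_toSier]
    exact toSier_congr e _ _ hst
  let g := h.desc (toSier _ s) (toSier _ t) hw
  have hga : a ≫ g = toSier _ s := h.inl_desc _ _ _
  have hgb : b ≫ g = toSier _ t := h.inr_desc _ _ _
  have hW : (Opens.map g.base).obj sierOpen = U := by
    have : toSier ((Opens.map g.base).obj sierOpen) 0 = toSier U 0 := by
      apply h.hom_ext
      · rw [comp_toSier, comp_toSier, map_zero, map_zero]
        refine toSier_congr ?_ _ _ (map_zero _)
        exact congrArg (fun k : A ⟶ sier => (Opens.map k.base).obj sierOpen) hga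
      · rw [comp_toSier, comp_toSier, map_zero, map_zero]
        refine toSier_congr ?_ _ _ (map_zero _)
        exact congrArg (fun k : B ⟶ sier => (Opens.map k.base).obj sierOpen) hgb
    exact congrArg (fun k : P ⟶ sier => (Opens.map k.base).obj sierOpen) this
  refine ⟨P.presheaf.map (eqToHom hW.symm).op (sierSec g), ?_, ?_⟩
  · have key : ∀ {X : PresheafedSpace.{_, _, u} CommRingCat.{u}} (k k' : X ⟶ sier) (e : k = k'),
        X.presheaf.map (eqToHom (congrArg (fun k : X ⟶ sier => (Opens.map k.base).obj sierOpen) e.symm)).op
          (sierSec k) = sierSec k' := by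
      rintro X k k' rfl
      simp
    have h1 := key _ _ hga
    rw [sierSec_toSier] at h1
    refine Eq.trans ?_ h1
    exact CategoryTheory.congr_fun (a.c.naturality (eqToHom hW.symm).op) (sierSec g)
  · have key : ∀ {X : PresheafedSpace.{_, _, u} CommRingCat.{u}} (k k' : X ⟶ sier) (e : k = k'),
        X.presheaf.map (eqToHom (congrArg (fun k : X ⟶ sier => (Opens.map k.base).obj sierOpen) e.symm)).op
          (sierSec k) = sierSec k' := by
      rintro X k k' rfl
      simp
    have h1 := key _ _ hgb
    rw [sierSec_toSier] at h1
    refine Eq.trans ?_ h1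
    exact CategoryTheory.congr_fun (b.c.naturality (eqToHom hW.symm).op) (sierSec g)

end Pushout

end Groth.Agent.PinchLib
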