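import Groth.Agent.PinchLib.AffinePushout

/-!
# Base change of pushouts of ringed spaces with flat terms

The base change of the square is locally the spectrum of a fibre square, hence again a pushout of
ringed spaces.
-/

set_option autoImplicit false
set_option backward.isDefEq.respectTransparency false

universe u

open CategoryTheory Limits AlgebraicGeometry TopologicalSpace Opposite

noncomputable section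

namespace Groth.Agent.PinchLib

/-- Equal morphisms have equal maps on sections. -/
lemma appLE_congr_hom {A B : Scheme.{u}} {k k' : A ⟶ B} (h : k = k') {U : B.Opens} {W : A.Opens}
    (e : W ≤ k ⁻¹ᵁ U) (e' : W ≤ k' ⁻¹ᵁ U) : k.appLE U W e = k'.appLE U W e' := by
  subst h; rfl

/-- A composite on sections. -/
lemma appLE_comp_eq {A B C : Scheme.{u}} {f : A ⟶ B} {g : B ⟶ C} {k : A ⟶ C} (h : f ≫ g = k)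
    {U : C.Opens} {V : B.Opens} {W : A.Opens} (e₁ : V ≤ g ⁻¹ᵁ U) (e₂ : W ≤ f ⁻¹ᵁ V)
    (e : W ≤ k ⁻¹ᵁ U) : g.appLE U V e₁ ≫ f.appLE V W e₂ = k.appLE U W e := by
  subst h
  exact Scheme.Hom.appLE_comp_appLE f g U V W e₁ e₂

/-- A commutative square on sections. -/
lemma appLE_sq {A B B' C : Scheme.{u}} {f : A ⟶ B} {g : B ⟶ C} {f' : A ⟶ B'} {g' : B' ⟶ C}
    (h : f ≫ g = f' ≫ g') {U : C.Opens} {V : B.Opens} {V' : B'.Opens} {W : A.Opens}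
    (e₁ : V ≤ g ⁻¹ᵁ U) (e₂ : W ≤ f ⁻¹ᵁ V) (e₁' : V' ≤ g' ⁻¹ᵁ U) (e₂' : W ≤ f' ⁻¹ᵁ V') :
    g.appLE U V e₁ ≫ f.appLE V W e₂ = g'.appLE U V' e₁' ≫ f'.appLE V' W e₂' :=
  (appLE_comp_eq h e₁ e₂ (e₂'.trans (f'.preimage_mono e₁'))).trans
    (appLE_comp_eq rfl e₁' e₂' _).symm

/-- The preimage of a box. -/
lemma preimage_box {A' A B' B T : Scheme.{u}} {π' : A' ⟶ B'} {eA : A' ⟶ A} {pA : A' ⟶ T}
    {eB : B' ⟶ B} {pB : B' ⟶ T} {π : A ⟶ B} (c : π' ≫ eB = eA ≫ π) (c' : π' ≫ pB = pA)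
    (V : B.Opens) (W : T.Opens) :
    π' ⁻¹ᵁ (eB ⁻¹ᵁ V ⊓ pB ⁻¹ᵁ W) = eA ⁻¹ᵁ (π ⁻¹ᵁ V) ⊓ pA ⁻¹ᵁ W := by
  rw [← Scheme.Hom.comp_preimage eA π, ← c, ← c']
  rfl

variable {S X Z Z' X' : Scheme.{u}} {fX : X ⟶ S} {fZ' : Z' ⟶ S} {fX' : X' ⟶ S}
  {ι : Z ⟶ X} {q : Z ⟶ Z'} {π : X ⟶ X'} {ι' : Z' ⟶ X'}
  [IsClosedImmersion ι] [IsClosedImmersion ι'] [IsAffineHom π]
  (hq : q ≫ fZ' = ι ≫ fX) (hπ : π ≫ fX' = fX) (hι' : ι' ≫ fX' = fZ')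
  (hpo : IsPushout (toSh.map ι) (toSh.map q) (toSh.map π) (toSh.map ι'))
  [Flat fX] [Flat (ι ≫ fX)] [Flat fZ']
  {T : Scheme.{u}} {g : T ⟶ S} {XT ZT Z'T X'T : Scheme.{u}}
  {eX : XT ⟶ X} {pX : XT ⟶ T} {eZ : ZT ⟶ Z} {pZ : ZT ⟶ T}
  {eZ' : Z'T ⟶ Z'} {pZ' : Z'T ⟶ T} {eX' : X'T ⟶ X'} {pX' : X'T ⟶ T}
  (hX : IsPullback eX pX fX g) (hZ : IsPullback eZ pZ (ι ≫ fX) g)
  (hZ' : IsPullback eZ' pZ' fZ' g) (hX' : IsPullback eX' pX' fX' g)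
  {ιT : ZT ⟶ XT} {qT : ZT ⟶ Z'T} {πT : XT ⟶ X'T} {ι'T : Z'T ⟶ X'T}
  (cι : ιT ≫ eX = eZ ≫ ι) (cι₂ : ιT ≫ pX = pZ) (cq : qT ≫ eZ' = eZ ≫ q) (cq₂ : qT ≫ pZ' = pZ)
  (cπ : πT ≫ eX' = eX ≫ π) (cπ₂ : πT ≫ pX' = pX) (cι' : ι'T ≫ eX' = eZ' ≫ ι')
  (cι'₂ : ι'T ≫ pX' = pZ')

omit [IsClosedImmersion ι] [IsClosedImmersion ι'] [IsAffineHom π] [Flat fX] [Flat (ι ≫ fX)]
  [Flat fZ'] in
include hpo cι cι₂ cq cq₂ cπ cπ₂ cι' cι'₂ hX' in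
/-- The base change of the square commutes. -/
lemma w_baseChange : ιT ≫ πT = qT ≫ ι'T := by
  refine hX'.hom_ext ?_ ?_
  · rw [Category.assoc, cπ, Category.assoc, cι', reassoc_of% cι, reassoc_of% cq, w_of_ringed hpo]
  · rw [Category.assoc, cπ₂, Category.assoc, cι'₂, cι₂, cq₂]

include hq hπ hι' hpo hX hZ hZ' hX' cι cι₂ cq cq₂ cπ cπ₂ cι' cι'₂ in
/-- The boxes are charts. -/
theorem isChart_box {U : S.Opens} (hU : IsAffineOpen U) {V : X'.Opens} (hV : IsAffineOpen V)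
    (hVU : V ≤ fX' ⁻¹ᵁ U) {W : T.Opens} (hW : IsAffineOpen W) (hWU : W ≤ g ⁻¹ᵁ U) :
    IsChart (w_baseChange hpo hX' cι cι₂ cq cq₂ cπ cπ₂ cι' cι'₂) (eX' ⁻¹ᵁ V ⊓ pX' ⁻¹ᵁ W) := by
  let O := eX' ⁻¹ᵁ V ⊓ pX' ⁻¹ᵁ W
  have hA : IsAffineOpen (π ⁻¹ᵁ V) := hV.preimage π
  have hB : IsAffineOpen (ι' ⁻¹ᵁ V) := hV.preimage ι'
  have hC : IsAffineOpen (ι ⁻¹ᵁ π ⁻¹ᵁ V) := hA.preimage ι
  have aU : π ⁻¹ᵁ V ≤ fX ⁻¹ᵁ U := by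
    rw [← hπ, Scheme.Hom.comp_preimage]; exact π.preimage_mono hVU
  have bU : ι' ⁻¹ᵁ V ≤ fZ' ⁻¹ᵁ U := by
    rw [← hι', Scheme.Hom.comp_preimage]; exact ι'.preimage_mono hVU
  have cU : ι ⁻¹ᵁ π ⁻¹ᵁ V ≤ (ι ≫ fX) ⁻¹ᵁ U := ι.preimage_mono aU
  have boxA : πT ⁻¹ᵁ O = eX ⁻¹ᵁ (π ⁻¹ᵁ V) ⊓ pX ⁻¹ᵁ W := preimage_box cπ cπ₂ V W
  have boxB : ι'T ⁻¹ᵁ O = eZ' ⁻¹ᵁ (ι' ⁻¹ᵁ V) ⊓ pZ' ⁻¹ᵁ W := preimage_box cι' cι'₂ V W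
  have boxC : ιT ⁻¹ᵁ πT ⁻¹ᵁ O = eZ ⁻¹ᵁ (ι ⁻¹ᵁ π ⁻¹ᵁ V) ⊓ pZ ⁻¹ᵁ W := by
    rw [boxA]
    exact preimage_box cι cι₂ (π ⁻¹ᵁ V) W
  haveI : IsAffine U.toScheme := hU
  haveI : IsAffine W.toScheme := hW
  haveI : IsAffine V.toScheme := hV
  haveI : IsAffine (π ⁻¹ᵁ V).toScheme := hA
  haveI : IsAffine (ι' ⁻¹ᵁ V).toScheme := hB
  haveI : IsAffine (ι ⁻¹ᵁ π ⁻¹ᵁ V).toScheme := hC
  refine
    { hV := .of_isIso (Scheme.Hom.isPullback_resLE hX' hWU hVU (rfl : O = _)).isoPullback.hom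
      hA := .of_isIso (Scheme.Hom.isPullback_resLE hX hWU aU boxA).isoPullback.hom
      hB := .of_isIso (Scheme.Hom.isPullback_resLE hZ' hWU bU boxB).isoPullback.hom
      hC := .of_isIso (Scheme.Hom.isPullback_resLE hZ hWU cU boxC).isoPullback.hom
      fib := ?_ }
  have poP := (isIso_pushoutSection_iff hX' hWU hVU (rfl : O = _)).mp
    (isIso_pushoutSection_of_isAffineOpen hX' hWU hVU rfl hU hW hV)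
  have poA := (isIso_pushoutSection_iff hX hWU aU boxA).mp
    (isIso_pushoutSection_of_isAffineOpen hX hWU aU boxA hU hW hA)
  have poB := (isIso_pushoutSection_iff hZ' hWU bU boxB).mp
    (isIso_pushoutSection_of_isAffineOpen hZ' hWU bU boxB hU hW hB)
  have poC := (isIso_pushoutSection_iff hZ hWU cU boxC).mp
    (isIso_pushoutSection_of_isAffineOpen hZ hWU cU boxC hU hW hC)
  have fib0 : IsFib (ι'.appLE V (ι' ⁻¹ᵁ V) le_rfl) (π.appLE V (π ⁻¹ᵁ V) le_rfl)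
      (q.appLE (ι' ⁻¹ᵁ V) (ι ⁻¹ᵁ π ⁻¹ᵁ V) (preimage_eq hpo V).le)
      (ι.appLE (π ⁻¹ᵁ V) (ι ⁻¹ᵁ π ⁻¹ᵁ V) le_rfl) := by
    letI := (ι'.appLE V (ι' ⁻¹ᵁ V) le_rfl).hom.toAlgebra
    letI := (π.appLE V (π ⁻¹ᵁ V) le_rfl).hom.toAlgebra
    letI := (q.appLE (ι' ⁻¹ᵁ V) (ι ⁻¹ᵁ π ⁻¹ᵁ V) (preimage_eq hpo V).le).hom.toAlgebra
    letI := (ι.appLE (π ⁻¹ᵁ V) (ι ⁻¹ᵁ π ⁻¹ᵁ V) le_rfl).hom.toAlgebra
    letI := ((ι ≫ π).appLE V (ι ⁻¹ᵁ π ⁻¹ᵁ V) le_rfl).hom.toAlgebra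
    obtain ⟨_, _, h⟩ := isFibreSquare hpo V hA
    exact IsFib.of_isFibreSquare h
  rw [← Scheme.Hom.appLE_eq_app ι'T, ← Scheme.Hom.appLE_eq_app πT, ← Scheme.Hom.appLE_eq_app ιT]
  exact fib0.baseChange (g.appLE U W hWU) (fX'.appLE U V hVU) (fZ'.appLE U _ bU) (fX.appLE U _ aU)
    ((ι ≫ fX).appLE U _ cU)
    (appLE_comp_eq hι' hVU le_rfl bU) (appLE_comp_eq hπ hVU le_rfl aU)
    (appLE_comp_eq hq bU (preimage_eq hpo V).le cU)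
    poP.flip poB.flip poA.flip poC.flip
    (appLE_sq cι' _ _ _ _) (appLE_comp_eq cι'₂ _ _ _)
    (appLE_sq cπ _ _ _ _) (appLE_comp_eq cπ₂ _ _ _)
    (appLE_sq cq _ _ _ _) (appLE_comp_eq cq₂ _ _ _)
    (appLE_sq cι _ _ _ _) (appLE_comp_eq cι₂ _ _ _)
    (HasRingHomProperty.appLE @Flat fZ' inferInstance ⟨U, hU⟩ ⟨_, hB⟩ bU)
    (HasRingHomProperty.appLE @Flat fX inferInstance ⟨U, hU⟩ ⟨_, hA⟩ aU)
    (HasRingHomProperty.appLE @Flat (ι ≫ fX) inferInstance ⟨U, hU⟩ ⟨_, hC⟩ cU)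

include hq hπ hι' hpo hX hZ hZ' hX' cι cι₂ cq cq₂ cπ cπ₂ cι' cι'₂ in
/-- Every point of the base change lies in a chart. -/
theorem exists_chart (x : X'T) : ∃ O : X'T.Opens,
    x ∈ O ∧ IsChart (w_baseChange hpo hX' cι cι₂ cq cq₂ cπ cπ₂ cι' cι'₂) O := by
  obtain ⟨_, ⟨U, hU, rfl⟩, hxU, -⟩ :=
    S.isBasis_affineOpens.exists_subset_of_mem_open (Set.mem_univ (fX' (eX' x))) isOpen_univ
  obtain ⟨_, ⟨V, hV, rfl⟩, hxV, hVU⟩ :=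
    X'.isBasis_affineOpens.exists_subset_of_mem_open (show eX' x ∈ fX' ⁻¹ᵁ U from hxU) (fX' ⁻¹ᵁ U).2
  have hxW : pX' x ∈ g ⁻¹ᵁ U := by
    show g (pX' x) ∈ U
    rw [← Scheme.Hom.comp_apply, ← hX'.w, Scheme.Hom.comp_apply]
    exact hxU
  obtain ⟨_, ⟨W, hW, rfl⟩, hxW', hWU⟩ :=
    T.isBasis_affineOpens.exists_subset_of_mem_open hxW (g ⁻¹ᵁ U).2
  exact ⟨eX' ⁻¹ᵁ V ⊓ pX' ⁻¹ᵁ W, ⟨hxV, hxW'⟩,
    isChart_box hq hπ hι' hpo hX hZ hZ' hX' cι cι₂ cq cq₂ cπ cπ₂ cι' cι'₂ hU hV hVU hW hWU⟩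

include hq hπ hι' hpo hX hZ hZ' hX' cι cι₂ cq cq₂ cπ cπ₂ cι' cι'₂ in
/-- The base change is a pushout of ringed spaces. -/
theorem isPushout_baseChange :
    IsPushout (toSh.map ιT) (toSh.map qT) (toSh.map πT) (toSh.map ι'T) :=
  isPushout_of_charts _ (exists_chart hq hπ hι' hpo hX hZ hZ' hX' cι cι₂ cq cq₂ cπ cπ₂ cι' cι'₂)

end Groth.Agent.PinchLib
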