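import Groth.Agent.S6917
import Groth.Agent.S17901
import Mathlib.RingTheory.Localization.Away.Basic
import Mathlib.Algebra.Category.Ring.Constructions

/-!
# Fibre squares of rings as squares of homomorphisms

`IsFib pB pA fB fA`: the commutative square is a fibre product square with `fA` surjective. It is
stable under localisation and under base change along a flat family, and gives a pushout of spectra.
-/

set_option autoImplicit false
set_option backward.isDefEq.respectTransparency false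

universe u

open CategoryTheory Limits TensorProduct

noncomputable section

namespace Groth.Agent.PinchLib

variable {P B A C : CommRingCat.{u}}

/-- A fibre product square of rings with one surjective leg. -/
structure IsFib (pB : P ⟶ B) (pA : P ⟶ A) (fB : B ⟶ C) (fA : A ⟶ C) : Prop where
  w : pB ≫ fB = pA ≫ fA
  surj : Function.Surjective fA
  inj : ∀ p p' : P, pB p = pB p' → pA p = pA p' → p = p'
  glue : ∀ (b : B) (a : A), fB b = fA a → ∃ p, pB p = b ∧ pA p = a

/-- From the statement in terms of algebras. -/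
theorem IsFib.of_isFibreSquare {P B A C : Type u} [CommRing P] [CommRing B] [CommRing A] [CommRing C]
    [Algebra P B] [Algebra P A] [Algebra B C] [Algebra A C] [Algebra P C]
    [IsScalarTower P B C] [IsScalarTower P A C] (h : EtMil.IsFibreSquare P B A C) :
    IsFib (CommRingCat.ofHom (algebraMap P B)) (CommRingCat.ofHom (algebraMap P A))
      (CommRingCat.ofHom (algebraMap B C)) (CommRingCat.ofHom (algebraMap A C)) where
  w := by
    ext1
    exact (IsScalarTower.algebraMap_eq P B C).symm.trans (IsScalarTower.algebraMap_eq P A C)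
  surj := h.1
  inj p p' hb ha := by
    have hc : algebraMap B C (algebraMap P B p) = algebraMap A C (algebraMap P A p) := by
      rw [← IsScalarTower.algebraMap_apply, ← IsScalarTower.algebraMap_apply]
    exact (h.2 _ _ hc).unique ⟨rfl, rfl⟩ ⟨hb.symm, ha.symm⟩
  glue b a hab := (h.2 b a hab).exists

variable {pB : P ⟶ B} {pA : P ⟶ A} {fB : B ⟶ C} {fA : A ⟶ C}

lemma IsFib.w_apply (h : IsFib pB pA fB fA) (p : P) : fB (pB p) = fA (pA p) :=
  ConcreteCategory.congr_hom h.w p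

lemma IsFib.comm_apply {P B A C : CommRingCat.{u}} {f : P ⟶ B} {g : B ⟶ C} {f' : P ⟶ A}
    {g' : A ⟶ C} (e : f ≫ g = f' ≫ g') (p : P) : g (f p) = g' (f' p) :=
  ConcreteCategory.congr_hom e p

section Away

variable {P' B' A' C' : CommRingCat.{u}} {pB' : P' ⟶ B'} {pA' : P' ⟶ A'} {fB' : B' ⟶ C'}
  {fA' : A' ⟶ C'} (lP : P ⟶ P') (lB : B ⟶ B') (lA : A ⟶ A') (lC : C ⟶ C')

/-- A homomorphism is a localisation at an element. -/
def IsAway (l : P ⟶ P') (r : P) : Prop :=
  @IsLocalization.Away P _ r P' _ l.hom.toAlgebra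

lemma IsAway.isUnit {l : P ⟶ P'} {r : P} (h : IsAway l r) : IsUnit (l r) :=
  @IsLocalization.Away.algebraMap_isUnit P _ P' _ l.hom.toAlgebra r h

lemma IsAway.surj {l : P ⟶ P'} {r : P} (h : IsAway l r) (z : P') :
    ∃ (n : ℕ) (a : P), z * l r ^ n = l a :=
  @IsLocalization.Away.surj P _ P' _ l.hom.toAlgebra r h z

lemma IsAway.exists_of_eq {l : P ⟶ P'} {r : P} (h : IsAway l r) {a b : P} (e : l a = l b) :
    ∃ n : ℕ, r ^ n * a = r ^ n * b :=
  @IsLocalization.Away.exists_of_eq P _ P' _ l.hom.toAlgebra r h a b e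

variable {r : P} {lP lB lA lC}

/-- Localisation of a fibre square. -/
theorem IsFib.away (h : IsFib pB pA fB fA) (w' : pB' ≫ fB' = pA' ≫ fA')
    (e₁ : pB ≫ lB = lP ≫ pB') (e₂ : pA ≫ lA = lP ≫ pA') (e₃ : fB ≫ lC = lB ≫ fB')
    (e₄ : fA ≫ lC = lA ≫ fA') (hP : IsAway lP r) (hB : IsAway lB (pB r)) (hA : IsAway lA (pA r))
    (hC : IsAway lC (fB (pB r))) : IsFib pB' pA' fB' fA' := by
  have cB : ∀ p, pB' (lP p) = lB (pB p) := fun p => (IsFib.comm_apply e₁ p).symm
  have cA : ∀ p, pA' (lP p) = lA (pA p) := fun p => (IsFib.comm_apply e₂ p).symm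
  have cC : ∀ b, fB' (lB b) = lC (fB b) := fun b => (IsFib.comm_apply e₃ b).symm
  have cC' : ∀ a, fA' (lA a) = lC (fA a) := fun a => (IsFib.comm_apply e₄ a).symm
  have hu : IsUnit (lP r) := hP.isUnit
  refine ⟨w', fun z => ?_, fun x y hxB hxA => ?_, fun x y hxy => ?_⟩
  · obtain ⟨n, c, hc⟩ := hC.surj z
    obtain ⟨a, rfl⟩ := h.surj c
    obtain ⟨v, hv⟩ : ∃ v, v * lA (pA r) ^ n = 1 :=
      ((hA.isUnit).pow n).exists_left_inv
    refine ⟨lA a * v, ?_⟩
    rw [map_mul, cC', ← hc, h.w_apply, ← cC', mul_assoc, ← map_pow, ← map_mul,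
      mul_comm (lA (pA r) ^ n) v, hv, map_one, mul_one]
  · obtain ⟨n, a, ha⟩ := hP.surj x
    obtain ⟨m, b, hb⟩ := hP.surj y
    have e : x * lP r ^ (n + m) = lP (a * r ^ m) := by rw [pow_add, ← mul_assoc, ha, map_mul, map_pow]
    have e' : y * lP r ^ (n + m) = lP (b * r ^ n) := by
      rw [add_comm, pow_add, ← mul_assoc, hb, map_mul, map_pow]
    have h1 : lB (pB (a * r ^ m)) = lB (pB (b * r ^ n)) := by
      rw [← cB, ← cB, ← e, ← e', map_mul, map_mul, hxB]
    have h2 : lA (pA (a * r ^ m)) = lA (pA (b * r ^ n)) := by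
      rw [← cA, ← cA, ← e, ← e', map_mul, map_mul, hxA]
    obtain ⟨k, hk⟩ := hB.exists_of_eq h1
    obtain ⟨l, hl⟩ := hA.exists_of_eq h2
    have h3 : r ^ (k + l) * (a * r ^ m) = r ^ (k + l) * (b * r ^ n) := by
      refine h.inj _ _ ?_ ?_
      · simp only [map_mul, map_pow] at hk ⊢
        rw [add_comm, pow_add, mul_assoc, hk, mul_assoc]
      · simp only [map_mul, map_pow] at hl ⊢
        rw [pow_add, mul_assoc, hl, mul_assoc]
    have h4 := congrArg lP h3
    rw [map_mul lP.hom (r ^ (k + l)), map_mul lP.hom (r ^ (k + l)), ← e, ← e', map_pow] at h4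
    exact (hu.pow _).mul_right_cancel ((hu.pow (k + l)).mul_left_cancel h4)
  · obtain ⟨n, b, hb⟩ := hB.surj x
    obtain ⟨m, a, ha⟩ := hA.surj y
    have e : x * lB (pB r) ^ (n + m) = lB (b * pB r ^ m) := by
      rw [pow_add, ← mul_assoc, hb, map_mul, map_pow]
    have e' : y * lA (pA r) ^ (n + m) = lA (a * pA r ^ n) := by
      rw [add_comm, pow_add, ← mul_assoc, ha, map_mul, map_pow]
    have h1 : lC (fB (b * pB r ^ m)) = lC (fA (a * pA r ^ n)) := by
      rw [← cC, ← e, ← cC', ← e', map_mul, map_mul, hxy, map_pow, map_pow, cC, cC', h.w_apply]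
    obtain ⟨k, hk⟩ := hC.exists_of_eq h1
    obtain ⟨p, hpB, hpA⟩ := h.glue (pB r ^ k * (b * pB r ^ m)) (pA r ^ k * (a * pA r ^ n)) (by
      simp only [map_mul, map_pow] at hk ⊢
      rw [hk, h.w_apply])
    obtain ⟨v, hv⟩ : ∃ v, v * lP r ^ (k + (n + m)) = 1 := (hu.pow _).exists_left_inv
    refine ⟨lP p * v, ?_, ?_⟩
    · have hv' : pB' v * lB (pB r) ^ (k + (n + m)) = 1 := by
        rw [← cB, ← map_pow, ← map_mul, hv, map_one]
      rw [map_mul, cB, hpB, map_mul lB.hom, ← e, map_pow]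
      linear_combination x * hv'
    · have hv' : pA' v * lA (pA r) ^ (k + (n + m)) = 1 := by
        rw [← cA, ← map_pow, ← map_mul, hv, map_one]
      rw [map_mul, cA, hpA, map_mul lA.hom, ← e', map_pow]
      linear_combination y * hv'

end Away

section Spec

open PrimeSpectrum

/-- The pullback map on spectra. -/
abbrev sp {R S : CommRingCat.{u}} (f : R ⟶ S) :
    TopCat.of (PrimeSpectrum S) ⟶ TopCat.of (PrimeSpectrum R) :=
  TopCat.ofHom ⟨PrimeSpectrum.comap f.hom, PrimeSpectrum.continuous_comap _⟩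

/-- A fibre square gives a pushout of spectra. -/
theorem IsFib.isPushout_sp (h : IsFib pB pA fB fA) : IsPushout (sp fB) (sp fA) (sp pB) (sp pA) := by
  algebraize [pB.hom, pA.hom, fB.hom, fA.hom, (pB ≫ fB).hom]
  have t1 : IsScalarTower P B C := IsScalarTower.of_algebraMap_eq' rfl
  have t2 : IsScalarTower P A C :=
    IsScalarTower.of_algebraMap_eq' (congrArg CommRingCat.Hom.hom h.w)
  exact Groth.Agent.S6917.result P B A C ⟨h.surj, fun b a hab => by
    obtain ⟨p, hb, ha⟩ := h.glue b a hab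
    exact ⟨p, ⟨hb, ha⟩, fun q hq => h.inj q p (hq.1.trans hb.symm) (hq.2.trans ha.symm)⟩⟩

end Spec

section BaseChange

variable {R R' P' B' A' C' : CommRingCat.{u}} (g : R ⟶ R') (sP : R ⟶ P) (sB : R ⟶ B) (sA : R ⟶ A)
  (sC : R ⟶ C)
  {gP : P ⟶ P'} {tP : R' ⟶ P'} {gB : B ⟶ B'} {tB : R' ⟶ B'} {gA : A ⟶ A'} {tA : R' ⟶ A'}
  {gC : C ⟶ C'} {tC : R' ⟶ C'}
  {pB' : P' ⟶ B'} {pA' : P' ⟶ A'} {fB' : B' ⟶ C'} {fA' : A' ⟶ C'}

/-- The comparisons with tensor products commute with maps over the base. -/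
theorem tensorIso_comm {R R' X Y X' Y' : CommRingCat.{u}} (g : R ⟶ R') [Algebra R R'] [Algebra R X]
    [Algebra R Y] (f : (X : Type u) →ₐ[R] Y) {gX : X ⟶ X'} {tX : R' ⟶ X'} {gY : Y ⟶ Y'}
    {tY : R' ⟶ Y'} {f' : X' ⟶ Y'}
    (hX : IsPushout (CommRingCat.ofHom (algebraMap R R')) (CommRingCat.ofHom (algebraMap R X)) tX gX)
    (hY : IsPushout (CommRingCat.ofHom (algebraMap R R')) (CommRingCat.ofHom (algebraMap R Y)) tY gY)
    (e : gX ≫ f' = CommRingCat.ofHom f.toRingHom ≫ gY) (e' : tX ≫ f' = tY)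
    (x : (R' : Type u) ⊗[R] X) :
    f' (((CommRingCat.isPushout_tensorProduct R R' X).isoIsPushout _ _ hX).hom x) =
      ((CommRingCat.isPushout_tensorProduct R R' Y).isoIsPushout _ _ hY).hom
        (Algebra.TensorProduct.map (AlgHom.id R R') f x) := by
  let θX := (CommRingCat.isPushout_tensorProduct R R' X).isoIsPushout _ _ hX
  let θY := (CommRingCat.isPushout_tensorProduct R R' Y).isoIsPushout _ _ hY
  let m : CommRingCat.of ((R' : Type u) ⊗[R] X) ⟶ CommRingCat.of ((R' : Type u) ⊗[R] Y) :=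
    CommRingCat.ofHom (Algebra.TensorProduct.map (AlgHom.id R R') f).toRingHom
  refine RingHom.congr_fun (congrArg CommRingCat.Hom.hom (?_ : θX.hom ≫ f' = m ≫ θY.hom)) x
  refine (CommRingCat.isPushout_tensorProduct R R' X).hom_ext ?_ ?_
  · refine (Category.assoc _ _ _).symm.trans ?_
    rw [IsPushout.inl_isoIsPushout_hom, e', ← (CommRingCat.isPushout_tensorProduct R R' Y).inl_isoIsPushout_hom _ _ hY,
      ← Category.assoc]
    refine congrArg (· ≫ θY.hom) ?_
    ext r
    simp [m]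
  · refine (Category.assoc _ _ _).symm.trans ?_
    rw [IsPushout.inr_isoIsPushout_hom, e, ← (CommRingCat.isPushout_tensorProduct R R' Y).inr_isoIsPushout_hom _ _ hY,
      ← Category.assoc, ← Category.assoc]
    refine congrArg (· ≫ θY.hom) ?_
    ext r
    simp [m]

/-- Base change of a fibre square with flat terms. -/
theorem IsFib.baseChange (h : IsFib pB pA fB fA) (hsB : sP ≫ pB = sB) (hsA : sP ≫ pA = sA)
    (hsC : sB ≫ fB = sC) (hP : IsPushout g sP tP gP) (hB : IsPushout g sB tB gB)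
    (hA : IsPushout g sA tA gA) (hC : IsPushout g sC tC gC)
    (eB : gP ≫ pB' = pB ≫ gB) (eB' : tP ≫ pB' = tB) (eA : gP ≫ pA' = pA ≫ gA) (eA' : tP ≫ pA' = tA)
    (eC : gB ≫ fB' = fB ≫ gC) (eC' : tB ≫ fB' = tC) (eD : gA ≫ fA' = fA ≫ gC) (eD' : tA ≫ fA' = tC)
    (fB_flat : sB.hom.Flat) (fA_flat : sA.hom.Flat) (fC_flat : sC.hom.Flat) :
    IsFib pB' pA' fB' fA' := by
  have hsC' : sA ≫ fA = sC := by rw [← hsA, Category.assoc, ← h.w, ← Category.assoc, hsB, hsC]
  algebraize [g.hom, sP.hom, sB.hom, sA.hom, sC.hom, pB.hom, pA.hom, fB.hom, fA.hom, (pB ≫ fB).hom]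
  have : IsScalarTower P B C := IsScalarTower.of_algebraMap_eq' rfl
  have : IsScalarTower P A C := IsScalarTower.of_algebraMap_eq' (congrArg CommRingCat.Hom.hom h.w)
  have : IsScalarTower R P B := IsScalarTower.of_algebraMap_eq' (congrArg CommRingCat.Hom.hom hsB).symm
  have : IsScalarTower R P A := IsScalarTower.of_algebraMap_eq' (congrArg CommRingCat.Hom.hom hsA).symm
  have : IsScalarTower R B C := IsScalarTower.of_algebraMap_eq' (congrArg CommRingCat.Hom.hom hsC).symm
  have : IsScalarTower R A C := IsScalarTower.of_algebraMap_eq' (congrArg CommRingCat.Hom.hom hsC').symm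
  have : IsScalarTower R P C := IsScalarTower.of_algebraMap_eq' (congrArg CommRingCat.Hom.hom
    (show sC = sP ≫ pB ≫ fB by rw [reassoc_of% hsB, hsC]))
  have sq : EtMil.IsFibreSquare P B A C := ⟨h.surj, fun b a hab => by
    obtain ⟨p, hb, ha⟩ := h.glue b a hab
    exact ⟨p, ⟨hb, ha⟩, fun q hq => h.inj q p (hq.1.trans hb.symm) (hq.2.trans ha.symm)⟩⟩
  haveI : Module.Flat R B := fB_flat
  haveI : Module.Flat R A := fA_flat
  haveI : Module.Flat R C := fC_flat
  obtain ⟨hsurj, hglue⟩ := Groth.Agent.S17901.result R P B A C sq R'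
  let θP := (CommRingCat.isPushout_tensorProduct R R' P).isoIsPushout _ _ hP
  let θB := (CommRingCat.isPushout_tensorProduct R R' B).isoIsPushout _ _ hB
  let θA := (CommRingCat.isPushout_tensorProduct R R' A).isoIsPushout _ _ hA
  let θC := (CommRingCat.isPushout_tensorProduct R R' C).isoIsPushout _ _ hC
  have kB : ∀ x, pB' (θP.hom x) = θB.hom _ :=
    tensorIso_comm g (IsScalarTower.toAlgHom R P B) hP hB eB eB'
  have kA : ∀ x, pA' (θP.hom x) = θA.hom _ :=
    tensorIso_comm g (IsScalarTower.toAlgHom R P A) hP hA eA eA'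
  have kC : ∀ x, fB' (θB.hom x) = θC.hom _ :=
    tensorIso_comm g (IsScalarTower.toAlgHom R B C) hB hC eC eC'
  have kD : ∀ x, fA' (θA.hom x) = θC.hom _ :=
    tensorIso_comm g (IsScalarTower.toAlgHom R A C) hA hC eD eD'
  have sur : ∀ {U V : CommRingCat.{u}} (θ : U ≅ V) (v : V), ∃ u, θ.hom u = v := fun θ v =>
    ⟨θ.inv v, ConcreteCategory.congr_hom θ.inv_hom_id v⟩
  have injθ : ∀ {U V : CommRingCat.{u}} (θ : U ≅ V) {a b : U}, θ.hom a = θ.hom b → a = b :=
    fun {U V} θ {a b} hab => (ConcreteCategory.congr_hom θ.hom_inv_id a).symm.trans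
      ((congrArg θ.inv hab).trans (ConcreteCategory.congr_hom θ.hom_inv_id b))
  refine ⟨hP.hom_ext ?_ ?_, fun z => ?_, fun p p' hpB hpA => ?_, fun b a hab => ?_⟩
  · rw [reassoc_of% eB', reassoc_of% eA', eC', eD']
  · rw [reassoc_of% eB, eC, reassoc_of% eA, eD, reassoc_of% h.w]
  · obtain ⟨z, rfl⟩ := sur θC z
    obtain ⟨a, rfl⟩ := hsurj z
    exact ⟨θA.hom a, kD a⟩
  · obtain ⟨p, rfl⟩ := sur θP p
    obtain ⟨p', rfl⟩ := sur θP p'
    rw [kB, kB] at hpB
    rw [kA, kA] at hpA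
    have eb := injθ θB hpB
    have ea := injθ θA hpA
    have hc : ∀ q, fB' (pB' (θP.hom q)) = fA' (pA' (θP.hom q)) := fun q =>
      ConcreteCategory.congr_hom (show pB' ≫ fB' = pA' ≫ fA' from hP.hom_ext
        (by rw [reassoc_of% eB', reassoc_of% eA', eC', eD'])
        (by rw [reassoc_of% eB, eC, reassoc_of% eA, eD, reassoc_of% h.w])) (θP.hom q)
    have hh := hc p
    rw [kB, kA, kC, kD] at hh
    exact congrArg θP.hom ((hglue _ _ (injθ θC hh)).unique ⟨rfl, rfl⟩ ⟨eb.symm, ea.symm⟩)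
  · obtain ⟨b, rfl⟩ := sur θB b
    obtain ⟨a, rfl⟩ := sur θA a
    rw [kC, kD] at hab
    obtain ⟨z, ⟨hzB, hzA⟩, -⟩ := hglue b a (injθ θC hab)
    exact ⟨θP.hom z, (kB z).trans (congrArg θB.hom hzB), (kA z).trans (congrArg θA.hom hzA)⟩

end BaseChange

end Groth.Agent.PinchLib
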