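import Groth.Agent.PinchLib.RingedPushout
import Groth.Agent.PinchLib.FibSq

/-!
# Squares which are locally spectra of fibre squares are pushouts of ringed spaces
-/

set_option autoImplicit false
set_option backward.isDefEq.respectTransparency false

universe u

open CategoryTheory Limits AlgebraicGeometry TopologicalSpace Opposite

noncomputable section

namespace Groth.Agent.PinchLib

variable {X Z Z' X' : Scheme.{u}} {ι : Z ⟶ X} {q : Z ⟶ Z'} {π : X ⟶ X'} {ι' : Z' ⟶ X'}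
  (w : ι ≫ π = q ≫ ι')

/-- An affine open over which the square is the spectrum of a fibre square. -/
structure IsChart (V : X'.Opens) : Prop where
  hV : IsAffineOpen V
  hA : IsAffineOpen (π ⁻¹ᵁ V)
  hB : IsAffineOpen (ι' ⁻¹ᵁ V)
  hC : IsAffineOpen (ι ⁻¹ᵁ π ⁻¹ᵁ V)
  fib : IsFib (ι'.app V) (π.app V) (q.appLE (ι' ⁻¹ᵁ V) (ι ⁻¹ᵁ π ⁻¹ᵁ V) (preimage_of_w w V).le)
    (ι.app (π ⁻¹ᵁ V))

variable {w} {V : X'.Opens} (h : IsChart w V)

include h in
/-- Sections over a basic open of a chart are compatible pairs. -/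
theorem IsChart.secProp_basicOpen (r : Γ(X', V)) : SecProp w (X'.basicOpen r) := by
  let D := X'.basicOpen r
  have iD : D ≤ V := X'.basicOpen_le r
  have eA : π ⁻¹ᵁ D = X.basicOpen (π.app V r) := Scheme.preimage_basicOpen π r
  have eB : ι' ⁻¹ᵁ D = Z'.basicOpen (ι'.app V r) := Scheme.preimage_basicOpen ι' r
  have eC : ι ⁻¹ᵁ π ⁻¹ᵁ D = Z.basicOpen (ι.app (π ⁻¹ᵁ V) (π.app V r)) := by
    rw [eA, Scheme.preimage_basicOpen]
  have iA : π ⁻¹ᵁ D ≤ π ⁻¹ᵁ V := π.preimage_mono iD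
  have iB : ι' ⁻¹ᵁ D ≤ ι' ⁻¹ᵁ V := ι'.preimage_mono iD
  have iC : ι ⁻¹ᵁ π ⁻¹ᵁ D ≤ ι ⁻¹ᵁ π ⁻¹ᵁ V := ι.preimage_mono iA
  have key := IsFib.away (pB' := ι'.app D) (pA' := π.app D)
    (fB' := q.appLE (ι' ⁻¹ᵁ D) (ι ⁻¹ᵁ π ⁻¹ᵁ D) (preimage_of_w w D).le) (fA' := ι.app (π ⁻¹ᵁ D))
    (lP := X'.presheaf.map (homOfLE iD).op) (lB := Z'.presheaf.map (homOfLE iB).op)
    (lA := X.presheaf.map (homOfLE iA).op) (lC := Z.presheaf.map (homOfLE iC).op) (r := r)
    h.fib ?_ (ι'.naturality (homOfLE iD).op).symm (π.naturality (homOfLE iD).op).symm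
    (by simp only [Scheme.Hom.appLE_map, Scheme.Hom.map_appLE])
    (ι.naturality (homOfLE iA).op).symm
    (h.hV.isLocalization_of_eq_basicOpen r (homOfLE iD) rfl)
    (h.hB.isLocalization_of_eq_basicOpen _ (homOfLE iB) eB)
    (h.hA.isLocalization_of_eq_basicOpen _ (homOfLE iA) eA) ?_
  · refine ⟨fun x y hX hZ => key.inj x y hZ hX, fun s t hst => ?_⟩
    obtain ⟨x, hx, hx'⟩ := key.glue t s (hst.symm.trans
      (congrArg (fun k => k s) (Scheme.Hom.appLE_eq_app ι)))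
    exact ⟨x, hx', hx⟩
  · rw [← Scheme.Hom.appLE_eq_app ι, ← Scheme.Hom.appLE_eq_app ι', ← Scheme.Hom.appLE_eq_app π,
      Scheme.Hom.appLE_comp_appLE, Scheme.Hom.appLE_comp_appLE]
    congr 1
    exact w.symm
  · rw [h.fib.w_apply]
    exact h.hC.isLocalization_of_eq_basicOpen _ (homOfLE iC) eC

variable (w) (hloc : ∀ x : X', ∃ V : X'.Opens, x ∈ V ∧ IsChart w V)

include hloc in
/-- Sections over every open are compatible pairs. -/
theorem secProp_of_charts (U : X'.Opens) : SecProp w U := by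
  have hB : ∀ (O : X'.Opens), ∀ x ∈ O, ∃ D : X'.Opens, x ∈ D ∧ D ≤ O ∧ SecProp w D := by
    intro O x hx
    obtain ⟨V, hxV, hV⟩ := hloc x
    obtain ⟨r, hr, hxr⟩ := hV.hV.exists_basicOpen_le ⟨x, hx⟩ hxV
    exact ⟨_, hxr, hr, hV.secProp_basicOpen r⟩
  have hinj : ∀ (O : X'.Opens) (x y : Γ(X', O)), π.app O x = π.app O y →
      ι'.app O x = ι'.app O y → x = y := by
    intro O x y hX hZ
    choose D hxD hDO hD using hB O
    refine X'.sheaf.eq_of_locally_eq' (fun p : O => D p.1 p.2) O (fun p => homOfLE (hDO p.1 p.2))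
      (fun p hp => Opens.mem_iSup.2 ⟨⟨p, hp⟩, hxD p hp⟩) x y fun p => (hD p.1 p.2).inj _ _ ?_ ?_
    · exact (ConcreteCategory.congr_hom (π.naturality (homOfLE (hDO p.1 p.2)).op) x).trans
        ((congrArg _ hX).trans (ConcreteCategory.congr_hom (π.naturality (homOfLE (hDO p.1 p.2)).op) y).symm)
    · exact (ConcreteCategory.congr_hom (ι'.naturality (homOfLE (hDO p.1 p.2)).op) x).trans
        ((congrArg _ hZ).trans (ConcreteCategory.congr_hom (ι'.naturality (homOfLE (hDO p.1 p.2)).op) y).symm)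
  refine ⟨hinj U, fun s t hst => ?_⟩
  choose D hxD hDU hD using hB U
  have hres : ∀ p : U, ∃ x : Γ(X', D p.1 p.2),
      π.app _ x = X.presheaf.map (homOfLE (π.preimage_mono (hDU p.1 p.2))).op s ∧
      ι'.app _ x = Z'.presheaf.map (homOfLE (ι'.preimage_mono (hDU p.1 p.2))).op t := fun p => by
    refine (hD p.1 p.2).exists_glue _ _ ?_
    rw [← ConcreteCategory.comp_apply, ← ConcreteCategory.comp_apply, Scheme.Hom.map_appLE,
      Scheme.Hom.map_appLE]
    have := congrArg (Z.presheaf.map (homOfLE (ι.preimage_mono (π.preimage_mono (hDU p.1 p.2)))).op) hst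
    rw [← ConcreteCategory.comp_apply, ← ConcreteCategory.comp_apply, Scheme.Hom.appLE_map,
      Scheme.Hom.appLE_map] at this
    exact this
  choose sec hsX hsZ using hres
  have hp : ∀ (p : U) (O : X'.Opens) (hO : O ≤ D p.1 p.2),
      π.app O (X'.presheaf.map (homOfLE hO).op (sec p)) =
        X.presheaf.map (homOfLE (π.preimage_mono (hO.trans (hDU p.1 p.2)))).op s ∧
      ι'.app O (X'.presheaf.map (homOfLE hO).op (sec p)) =
        Z'.presheaf.map (homOfLE (ι'.preimage_mono (hO.trans (hDU p.1 p.2)))).op t := fun p O hO => by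
    constructor
    · refine (ConcreteCategory.congr_hom (π.naturality (homOfLE hO).op) (sec p)).trans ?_
      refine (congrArg _ (hsX p)).trans ?_
      refine (ConcreteCategory.congr_hom (X.presheaf.map_comp _ _).symm s).trans ?_
      rfl
    · refine (ConcreteCategory.congr_hom (ι'.naturality (homOfLE hO).op) (sec p)).trans ?_
      refine (congrArg _ (hsZ p)).trans ?_
      refine (ConcreteCategory.congr_hom (Z'.presheaf.map_comp _ _).symm t).trans ?_
      rfl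
  obtain ⟨x, hx, -⟩ := X'.sheaf.existsUnique_gluing' (fun p : U => D p.1 p.2) U
    (fun p => homOfLE (hDU p.1 p.2)) (fun p hp => Opens.mem_iSup.2 ⟨⟨p, hp⟩, hxD p hp⟩) sec
    fun p p' => hinj _ _ _ ((hp p _ inf_le_left).1.trans (hp p' _ inf_le_right).1.symm)
      ((hp p _ inf_le_left).2.trans (hp p' _ inf_le_right).2.symm)
  refine ⟨x, ?_, ?_⟩
  · refine X.sheaf.eq_of_locally_eq' (fun p : U => π ⁻¹ᵁ D p.1 p.2) (π ⁻¹ᵁ U)
      (fun p => homOfLE (π.preimage_mono (hDU p.1 p.2)))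
      (fun y hy => Opens.mem_iSup.2 ⟨⟨π y, hy⟩, hxD (π y) hy⟩) _ _ fun p => ?_
    refine ((ConcreteCategory.congr_hom (π.naturality (homOfLE (hDU p.1 p.2)).op) x).symm.trans ?_).trans
      (hsX p)
    exact congrArg (π.app _) (hx p)
  · refine Z'.sheaf.eq_of_locally_eq' (fun p : U => ι' ⁻¹ᵁ D p.1 p.2) (ι' ⁻¹ᵁ U)
      (fun p => homOfLE (ι'.preimage_mono (hDU p.1 p.2)))
      (fun y hy => Opens.mem_iSup.2 ⟨⟨ι' y, hy⟩, hxD (ι' y) hy⟩) _ _ fun p => ?_
    refine ((ConcreteCategory.congr_hom (ι'.naturality (homOfLE (hDU p.1 p.2)).op) x).symm.trans ?_).trans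
      (hsZ p)
    exact congrArg (ι'.app _) (hx p)

/-- The pushout of spaces is covered by the two legs. -/
lemma sp_cover {P B A C : CommRingCat.{u}} {pB : P ⟶ B} {pA : P ⟶ A} {fB : B ⟶ C} {fA : A ⟶ C}
    (hf : IsFib pB pA fB fA) (p : PrimeSpectrum P) :
    (∃ Q, sp pB Q = p) ∨ ∃ Q, sp pA Q = p := by
  let T : TopCat.{u} := @TopCat.of (ULift.{u} Prop) ⊤
  let f : TopCat.of (PrimeSpectrum P) ⟶ T :=
    @TopCat.ofHom _ _ _ ⊤ (@ContinuousMap.mk _ _ _ ⊤
      (fun x => ULift.up ((∃ Q, sp pB Q = x) ∨ ∃ Q, sp pA Q = x)) continuous_top)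
  let g : TopCat.of (PrimeSpectrum P) ⟶ T :=
    @TopCat.ofHom _ _ _ ⊤ (@ContinuousMap.mk _ _ _ ⊤ (fun _ => ULift.up True) continuous_top)
  have e : f = g := hf.isPushout_sp.hom_ext
    (ConcreteCategory.hom_ext _ _ fun Q => ULift.ext _ _ (eq_true (Or.inl ⟨Q, rfl⟩)))
    (ConcreteCategory.hom_ext _ _ fun Q => ULift.ext _ _ (eq_true (Or.inr ⟨Q, rfl⟩)))
  exact of_eq_true (congrArg ULift.down (ConcreteCategory.congr_hom e p))

include hloc in
/-- The square is a pushout of spaces. -/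
theorem top_of_charts : IsPushout ι.base q.base π.base ι'.base := by
  classical
  have hw : ι.base ≫ π.base = q.base ≫ ι'.base := by
    rw [← Scheme.Hom.comp_base, ← Scheme.Hom.comp_base, w]
  have cover : ∀ x : X', (∃ y, π y = x) ∨ ∃ y, ι' y = x := by
    intro x
    obtain ⟨V, hxV, hV⟩ := hloc x
    obtain ⟨p, rfl⟩ : x ∈ Set.range hV.hV.fromSpec := by rw [hV.hV.range_fromSpec]; exact hxV
    rcases sp_cover hV.fib p with ⟨Q, rfl⟩ | ⟨Q, rfl⟩
    · refine Or.inr ⟨hV.hB.fromSpec Q, ?_⟩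
      have := IsAffineOpen.SpecMap_appLE_fromSpec ι' hV.hV hV.hB le_rfl
      rw [Scheme.Hom.appLE_eq_app] at this
      exact (congr($this Q)).symm
    · refine Or.inl ⟨hV.hA.fromSpec Q, ?_⟩
      have := IsAffineOpen.SpecMap_appLE_fromSpec π hV.hV hV.hA le_rfl
      rw [Scheme.Hom.appLE_eq_app] at this
      exact (congr($this Q)).symm
  refine IsPushout.of_isColimit' ⟨hw⟩ (PushoutCocone.isColimitAux' _ fun s => ?_)
  let G : X' → s.pt := fun x =>
    if hx : ∃ y, π y = x then s.inl hx.choose else s.inr ((cover x).resolve_left hx).choose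
  have loc : ∀ (V : X'.Opens) (hV : IsChart w V), ∃ gV : TopCat.of (PrimeSpectrum Γ(X', V)) ⟶ s.pt,
      (∀ y, π y ∈ V → ∀ p, hV.hV.fromSpec p = π y → gV p = s.inl y) ∧
      ∀ y, ι' y ∈ V → ∀ p, hV.hV.fromSpec p = ι' y → gV p = s.inr y := by
    intro V hV
    have eq₁ := IsAffineOpen.SpecMap_appLE_fromSpec π hV.hV hV.hA le_rfl
    rw [Scheme.Hom.appLE_eq_app] at eq₁
    have eq₂ := IsAffineOpen.SpecMap_appLE_fromSpec ι' hV.hV hV.hB le_rfl
    rw [Scheme.Hom.appLE_eq_app] at eq₂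
    have eq₃ := IsAffineOpen.SpecMap_appLE_fromSpec ι hV.hA hV.hC le_rfl
    rw [Scheme.Hom.appLE_eq_app] at eq₃
    have eq₄ := IsAffineOpen.SpecMap_appLE_fromSpec q hV.hB hV.hC (preimage_of_w w V).le
    let a' : TopCat.of (PrimeSpectrum Γ(X, π ⁻¹ᵁ V)) ⟶ s.pt := hV.hA.fromSpec.base ≫ s.inl
    let b' : TopCat.of (PrimeSpectrum Γ(Z', ι' ⁻¹ᵁ V)) ⟶ s.pt := hV.hB.fromSpec.base ≫ s.inr
    have hab : sp (q.appLE (ι' ⁻¹ᵁ V) (ι ⁻¹ᵁ π ⁻¹ᵁ V) (preimage_of_w w V).le) ≫ b' =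
        sp (ι.app (π ⁻¹ᵁ V)) ≫ a' := by
      refine ConcreteCategory.hom_ext _ _ fun Q => ?_
      refine (congrArg s.inr (congr($eq₄ Q))).trans (Eq.trans ?_ (congrArg s.inl (congr($eq₃ Q))).symm)
      exact (congr($(s.condition) (hV.hC.fromSpec Q))).symm
    refine ⟨hV.fib.isPushout_sp.desc b' a' hab, fun y hy p hp => ?_, fun y hy p hp => ?_⟩
    · obtain ⟨Q, rfl⟩ : y ∈ Set.range hV.hA.fromSpec := by rw [hV.hA.range_fromSpec]; exact hy
      obtain rfl : p = sp (π.app V) Q :=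
        hV.hV.fromSpec.isOpenEmbedding.injective (hp.trans (congr($eq₁ Q)).symm)
      exact congr($(hV.fib.isPushout_sp.inr_desc b' a' hab) Q)
    · obtain ⟨Q, rfl⟩ : y ∈ Set.range hV.hB.fromSpec := by rw [hV.hB.range_fromSpec]; exact hy
      obtain rfl : p = sp (ι'.app V) Q :=
        hV.hV.fromSpec.isOpenEmbedding.injective (hp.trans (congr($eq₂ Q)).symm)
      exact congr($(hV.fib.isPushout_sp.inl_desc b' a' hab) Q)
  have hG : ∀ (y : X), G (π y) = s.inl y := fun y => by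
    have hx : ∃ y', π y' = π y := ⟨y, rfl⟩
    obtain ⟨V, hyV, hV⟩ := hloc (π y)
    obtain ⟨gV, h1, -⟩ := loc V hV
    obtain ⟨p, hp⟩ : π y ∈ Set.range hV.hV.fromSpec := by rw [hV.hV.range_fromSpec]; exact hyV
    refine (dif_pos hx).trans ?_
    exact (h1 _ (hx.choose_spec.symm ▸ hyV) p (hp.trans hx.choose_spec.symm)).symm.trans (h1 y hyV p hp)
  have hG' : ∀ (y : Z'), G (ι' y) = s.inr y := fun y => by
    obtain ⟨V, hyV, hV⟩ := hloc (ι' y)
    obtain ⟨gV, h1, h2⟩ := loc V hV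
    obtain ⟨p, hp⟩ : ι' y ∈ Set.range hV.hV.fromSpec := by rw [hV.hV.range_fromSpec]; exact hyV
    by_cases hx : ∃ y', π y' = ι' y
    · refine (dif_pos hx).trans ?_
      exact (h1 _ (hx.choose_spec.symm ▸ hyV) p (hp.trans hx.choose_spec.symm)).symm.trans (h2 y hyV p hp)
    · refine (dif_neg hx).trans ?_
      have e := ((cover (ι' y)).resolve_left hx).choose_spec
      exact (h2 _ (e.symm ▸ hyV) p (hp.trans e.symm)).symm.trans (h2 y hyV p hp)
  have hcont : Continuous G := by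
    refine continuous_def.2 fun O hO => isOpen_iff_forall_mem_open.2 fun x hx => ?_
    obtain ⟨V, hxV, hV⟩ := hloc x
    obtain ⟨gV, h1, h2⟩ := loc V hV
    have eG : ∀ p, G (hV.hV.fromSpec p) = gV p := fun p => by
      have hmem : hV.hV.fromSpec p ∈ V :=
        (Set.ext_iff.1 hV.hV.range_fromSpec _).1 (Set.mem_range_self p)
      rcases cover (hV.hV.fromSpec p) with ⟨y, hy⟩ | ⟨y, hy⟩
      · exact ((congrArg G hy.symm).trans (hG y)).trans (h1 y (hy ▸ hmem) p hy.symm).symm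
      · exact ((congrArg G hy.symm).trans (hG' y)).trans (h2 y (hy ▸ hmem) p hy.symm).symm
    refine ⟨hV.hV.fromSpec '' (gV ⁻¹' O), ?_, hV.hV.fromSpec.isOpenEmbedding.isOpenMap _
      (hO.preimage gV.hom.continuous), ?_⟩
    · rintro _ ⟨p, hp, rfl⟩
      show G _ ∈ O
      rw [eG]
      exact hp
    · obtain ⟨p, rfl⟩ : x ∈ Set.range hV.hV.fromSpec := by rw [hV.hV.range_fromSpec]; exact hxV
      exact ⟨p, show gV p ∈ O from eG p ▸ hx, rfl⟩
  refine ⟨TopCat.ofHom ⟨G, hcont⟩, ConcreteCategory.hom_ext _ _ hG, ConcreteCategory.hom_ext _ _ hG',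
    fun {m} h1 h2 => ConcreteCategory.hom_ext _ _ fun x => ?_⟩
  rcases cover x with ⟨y, rfl⟩ | ⟨y, rfl⟩
  · exact (congr($h1 y)).trans (hG y).symm
  · exact (congr($h2 y)).trans (hG' y).symm

include hloc in
/-- A square of schemes which is locally the spectrum of fibre squares is a pushout of ringed spaces. -/
theorem isPushout_of_charts :
    IsPushout (toSh.map ι) (toSh.map q) (toSh.map π) (toSh.map ι') :=
  isPushout_of_sections w (top_of_charts w hloc) (secProp_of_charts w hloc)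

end Groth.Agent.PinchLib
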