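import Mathlib.AlgebraicGeometry.Morphisms.Flat

/-!
# Flat surjective morphisms are injective on sections
-/

set_option autoImplicit false
set_option backward.isDefEq.respectTransparency false

universe u

open CategoryTheory AlgebraicGeometry

namespace Groth.Agent.PinchLib

/-- A flat surjective morphism is injective on sections over every open. -/
theorem app_injective_of_flat_surjective {X Y : Scheme.{u}} (f : X ⟶ Y) [Flat f] [Surjective f]
    (U : Y.Opens) : Function.Injective (f.app U) := by
  refine (injective_iff_map_eq_zero _).2 fun s hs => ?_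
  refine TopCat.Presheaf.section_ext Y.sheaf U _ _ fun y hy => ?_
  obtain ⟨x, rfl⟩ := f.surjective y
  algebraize [(f.stalkMap x).hom]
  have : Module.FaithfullyFlat (Y.presheaf.stalk (f x)) (X.presheaf.stalk x) :=
    @Module.FaithfullyFlat.of_flat_of_isLocalHom _ _ _ _ _ _ _
      (Flat.stalkMap f x) (f.toLRSHom.prop x)
  refine (‹RingHom.FaithfullyFlat _›.injective) ?_
  refine (Scheme.Hom.germ_stalkMap_apply f U x hy s).trans ?_
  rw [hs, map_zero]
  exact (map_zero (f.stalkMap x).hom).symm.trans (congrArg _ (map_zero (Y.presheaf.germ U (f x) hy).hom).symm)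

end Groth.Agent.PinchLib
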