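import Groth.Agent.PinchLib.EtaleSplit
import Groth.Agent.PinchLib.StdPushout
import Groth.Agent.PinchLib.StdRinged
import Groth.Agent.PinchLib.CokerBaseChange
import Groth.Agent.PinchLib.FlatSurjSections
import Groth.Prelude.Def_W4c3jacimperfPinch

/-! Cohomological flatness in dimension zero of a pinching. -/

set_option autoImplicit false
set_option backward.isDefEq.respectTransparency false

universe u

open CategoryTheory Limits AlgebraicGeometry TopologicalSpace Opposite TensorProduct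

noncomputable section

namespace Groth.Agent.PinchLib.CohFlat

/-- A pushout of rings is a tensor product, elementwise. -/
theorem exists_bijective {R A S S' : CommRingCat.{u}} {u₁ : R ⟶ S} {u₂ : R ⟶ A} {v₁ : S ⟶ S'} {v₂ : A ⟶ S'}
    (h : IsPushout u₁ u₂ v₁ v₂) :
    letI := u₁.hom.toAlgebra
    letI := u₂.hom.toAlgebra
    ∃ θ : (A ⊗[R] S) →+* S', Function.Bijective θ ∧ ∀ a s, θ (a ⊗ₜ[R] s) = v₂ a * v₁ s := by
  letI := u₁.hom.toAlgebra
  letI := u₂.hom.toAlgebra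
  let P := CommRingCat.isPushout_tensorProduct R A S
  have h' : IsPushout (CommRingCat.ofHom (algebraMap R A)) (CommRingCat.ofHom (algebraMap R S)) v₂ v₁ :=
    h.flip
  let e := P.isoIsPushout _ _ h'
  refine ⟨e.hom.hom, e.commRingCatIsoToRingEquiv.bijective, fun a s => ?_⟩
  have ha : e.hom (a ⊗ₜ[R] (1 : S)) = v₂ a := ConcreteCategory.congr_hom (P.inl_isoIsPushout_hom _ _ h') a
  have hs : e.hom ((1 : A) ⊗ₜ[R] s) = v₁ s := ConcreteCategory.congr_hom (P.inr_isoIsPushout_hom _ _ h') s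
  show e.hom (a ⊗ₜ[R] s) = _
  rw [← ha, ← hs, ← map_mul, Algebra.TensorProduct.tmul_mul_tmul, mul_one, one_mul]

lemma appLE_top {A B : Scheme.{u}} (k : A ⟶ B) (e : (⊤ : A.Opens) ≤ k ⁻¹ᵁ ⊤) : k.appLE ⊤ ⊤ e = k.appTop :=
  k.appLE_eq_app (U := ⊤)

/-- Global sections of an affine base change. -/
theorem isPushout_appTop {P X Y T : Scheme.{u}} [IsAffine X] [IsAffine Y] [IsAffine T]
    {fst : P ⟶ T} {snd : P ⟶ Y} {t : T ⟶ X} {g : Y ⟶ X} (h : IsPullback fst snd t g) :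
    IsPushout t.appTop g.appTop fst.appTop snd.appTop := by
  have hU : (⊤ : P.Opens) = fst ⁻¹ᵁ (⊤ : T.Opens) ⊓ snd ⁻¹ᵁ ⊤ := by
    simp only [Scheme.Hom.preimage_top, inf_idem]
  have := (isIso_pushoutSection_iff h (US := ⊤) (UT := ⊤) (UX := ⊤) le_top le_top hU).mp
    (isIso_pushoutSection_of_isAffineOpen h le_top le_top hU (isAffineOpen_top _) (isAffineOpen_top _)
      (isAffineOpen_top _))
  simp only [appLE_top] at this
  exact this

variable {X Y T Z P : Scheme.{u}} (f : X ⟶ Y) (t : T ⟶ Y) (ξ : Z ⟶ T) (ι : Z ⟶ X)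
    [IsFinite t] [IsFinite (ξ ≫ t)] [IsClosedImmersion ι] (hsq : ι ≫ f = ξ ≫ t)
    (hstd : ∀ y : Y, ∃ U : Y.Opens, IsAffineOpen U ∧ y ∈ U ∧ ∃ V : X.Opens, IsAffineOpen V ∧
      V ≤ f ⁻¹ᵁ U ∧ ∀ z : Z, (ξ ≫ t).base z ∈ U → ι.base z ∈ V)
    [IsFinite ξ] [Flat ξ] [Surjective ξ]
    (a : X ⟶ P) (b : T ⟶ P) (hP : IsPushout ι ξ a b)
    (hv : ∀ U : Y.affineOpens, @Pinch.CokerProjective Γ(Y, U) Γ(Z, (ξ ≫ t) ⁻¹ᵁ U) Γ(T, t ⁻¹ᵁ U) _ _ _
      ((ξ ≫ t).app U).hom.toAlgebra (ξ.app (t ⁻¹ᵁ U)).hom)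
    (p : P ⟶ Y) (hap : a ≫ p = f) (hbp : b ≫ p = t)

include hsq hstd hP hv hap hbp in
/-- Every point of the pinching lies in a chart with flat cokernel. -/
theorem exists_good (x : P) : ∃ U : Y.Opens, IsAffineOpen U ∧ ∃ V : P.Opens, IsAffineOpen V ∧
    V ≤ p ⁻¹ᵁ U ∧ x ∈ V ∧ Good ι ξ a b f U V := by
  have hc := StdPushout.exists_cover f t ξ ι hsq hstd
  obtain ⟨-, hb, -, hs⟩ := StdPushout.props ι ξ hc hP
  haveI := hb
  obtain ⟨U, hU, hxU, V₀, hV₀, hle, hz⟩ := hstd (p x)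
  by_cases hxb : x ∈ Set.range b
  · have e : ι ⁻¹ᵁ V₀ = ξ ⁻¹ᵁ (t ⁻¹ᵁ U) := Opens.ext (Set.ext fun z => ⟨fun h => by
      show (ξ ≫ t) z ∈ U
      rw [← hsq]
      exact hle h, hz z⟩)
    obtain ⟨W, hW, hWa, hWb⟩ := StdRinged.exists_affineOpen (StdRinged.isPushout_toSh hc hP) hV₀ (hU.preimage t) e
    have hWU : W ≤ p ⁻¹ᵁ U := fun w hw => by
      rcases hs w with ⟨v, rfl⟩ | ⟨v, rfl⟩
      · show p (a v) ∈ U
        rw [← Scheme.Hom.comp_apply, hap]
        exact hle (hWa.le hw)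
      · show p (b v) ∈ U
        rw [← Scheme.Hom.comp_apply, hbp]
        exact hWb.le hw
    refine ⟨U, hU, W, hW, hWU, ?_, ?_⟩
    · obtain ⟨v, rfl⟩ := hxb
      refine hWb.ge ?_
      show t v ∈ U
      rw [← hbp, Scheme.Hom.comp_apply]
      exact hxU
    · have key : ∀ (O : T.Opens) (O' : Z.Opens) (hO : O = t ⁻¹ᵁ U) (hO' : O' = (ξ ≫ t) ⁻¹ᵁ U)
          (e₁ : O' ≤ ξ ⁻¹ᵁ O) (k : Z ⟶ Y) (hk : k = ξ ≫ t) (e₂ : O' ≤ k ⁻¹ᵁ U),
          Function.Injective (ξ.appLE O O' e₁) ∧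
          (letI := (k.appLE U O' e₂).hom.toAlgebra
          Module.Flat Γ(Y, U) (Γ(Z, O') ⧸ Submodule.span Γ(Y, U) (Set.range (ξ.appLE O O' e₁).hom))) := by
        rintro O O' rfl rfl e₁ k rfl e₂
        refine ⟨?_, ?_⟩
        · have : ξ.appLE (t ⁻¹ᵁ U) ((ξ ≫ t) ⁻¹ᵁ U) e₁ = ξ.app (t ⁻¹ᵁ U) := Scheme.Hom.appLE_eq_app _
          rw [this]
          exact app_injective_of_flat_surjective ξ _
        · have h1 : ξ.appLE (t ⁻¹ᵁ U) ((ξ ≫ t) ⁻¹ᵁ U) e₁ = ξ.app (t ⁻¹ᵁ U) := Scheme.Hom.appLE_eq_app _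
          have h2 : (ξ ≫ t).appLE U ((ξ ≫ t) ⁻¹ᵁ U) e₂ = (ξ ≫ t).app U := Scheme.Hom.appLE_eq_app _
          rw [h1, h2]
          letI := ((ξ ≫ t).app U).hom.toAlgebra
          exact @Module.Flat.of_projective _ _ _ _ _ (hv ⟨U, hU⟩)
      intro e₁ e₂
      exact key _ _ hWb (by rw [hWa, e]; rfl) e₁ _ hsq e₂
  · let O : P.Opens := ⟨(Set.range b)ᶜ, b.isClosedEmbedding.isClosed_range.isOpen_compl⟩ ⊓ p ⁻¹ᵁ U
    obtain ⟨V, hV, hxV, hVO⟩ :=
      exists_isAffineOpen_mem_and_subset (U := O) (x := x) ⟨hxb, hxU⟩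
    have hVO' : V ≤ O := hVO
    refine ⟨U, hU, V, hV, hVO'.trans inf_le_right, hxV, fun e₁ e₂ => ?_⟩
    have hT : b ⁻¹ᵁ V = ⊥ := le_bot_iff.mp fun v hv => ((hVO' hv).1 ⟨v, rfl⟩).elim
    have hZ : ι ⁻¹ᵁ a ⁻¹ᵁ V = ⊥ := le_bot_iff.mp fun v hv => by
      have h1 : ξ v ∈ b ⁻¹ᵁ V := e₁ hv
      rw [hT] at h1
      exact h1.elim
    haveI : Subsingleton Γ(T, b ⁻¹ᵁ V) := by
      rw [hT]
      exact CommRingCat.subsingleton_of_isTerminal T.sheaf.isTerminalOfEmpty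
    haveI : Subsingleton Γ(Z, ι ⁻¹ᵁ a ⁻¹ᵁ V) := by
      rw [hZ]
      exact CommRingCat.subsingleton_of_isTerminal Z.sheaf.isTerminalOfEmpty
    refine ⟨fun _ _ _ => Subsingleton.elim _ _, ?_⟩
    letI := ((ι ≫ f).appLE U (ι ⁻¹ᵁ a ⁻¹ᵁ V) e₂).hom.toAlgebra
    exact Module.Flat.of_free

variable [IsAffine Y]

include hsq hstd hP hv hap hbp in
/-- The base change of the pinching has the base ring as functions. -/
theorem bijective_snd [IsDedekindDomain Γ(Y, ⊤)] [IsIso p.appTop]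
    (het : @Algebra.Etale Γ(Y, ⊤) Γ(X, ⊤) _ _ f.appTop.hom.toAlgebra)
    {Y' : Scheme.{u}} [IsAffine Y'] (g : Y' ⟶ Y)
    (hcf : IsPushout f.appTop g.appTop (pullback.fst f g).appTop (pullback.snd f g).appTop) :
    Function.Bijective (pullback.snd p g).appTop := by
  have hc := StdPushout.exists_cover f t ξ ι hsq hstd
  obtain ⟨-, hb, ha, -⟩ := StdPushout.props ι ξ hc hP
  haveI := hb
  haveI := ha
  have hpo := StdRinged.isPushout_toSh hc hP
  haveI : IsAffine T := isAffine_of_isAffineHom t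
  haveI : IsAffine Z := isAffine_of_isAffineHom (ξ ≫ t)
  letI := f.appTop.hom.toAlgebra
  letI := t.appTop.hom.toAlgebra
  letI := (ξ ≫ t).appTop.hom.toAlgebra
  letI := g.appTop.hom.toAlgebra
  haveI := het
  haveI : Module.Finite Γ(Y, ⊤) Γ(Z, ⊤) := IsFinite.finite_app (ξ ≫ t) ⊤ (isAffineOpen_top Y)
  let jS : Γ(X, ⊤) →ₐ[Γ(Y, ⊤)] Γ(Z, ⊤) :=
    { ι.appTop.hom with
      commutes' := fun r => by
        show (f.appTop ≫ ι.appTop) r = (ξ ≫ t).appTop r
        rw [← Scheme.Hom.comp_appTop, hsq] }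
  let jB : Γ(T, ⊤) →ₐ[Γ(Y, ⊤)] Γ(Z, ⊤) :=
    { ξ.appTop.hom with
      commutes' := fun r => by
        show (t.appTop ≫ ξ.appTop) r = (ξ ≫ t).appTop r
        rw [← Scheme.Hom.comp_appTop] }
  haveI : Module.Projective Γ(Y, ⊤) (Γ(Z, ⊤) ⧸ LinearMap.range jB.toLinearMap) := by
    have h : Module.Projective Γ(Y, ⊤) (Γ(Z, ⊤) ⧸ Submodule.span Γ(Y, ⊤) (Set.range ξ.appTop.hom)) :=
      hv ⟨⊤, isAffineOpen_top Y⟩
    have e : Submodule.span Γ(Y, ⊤) (Set.range ξ.appTop.hom) = LinearMap.range jB.toLinearMap := ?_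
    · exact Module.Projective.of_equiv (Submodule.quotEquivOfEq _ _ e)
    refine le_antisymm (Submodule.span_le.mpr ?_) ?_
    · rintro _ ⟨w, rfl⟩; exact ⟨w, rfl⟩
    · rintro _ ⟨w, rfl⟩; exact Submodule.subset_span ⟨w, rfl⟩
  have hinj : Function.Injective jB := app_injective_of_flat_surjective ξ ⊤
  have hker : ∀ s b', jS s = jB b' → ∃ r, algebraMap Γ(Y, ⊤) Γ(X, ⊤) r = s := fun s b' h => by
    obtain ⟨w, hw, -⟩ := sections_exists hpo ⊤ s b' (by
      exact ((ConcreteCategory.congr_hom (appLE_top ι le_rfl) s).trans h).trans (ConcreteCategory.congr_hom (appLE_top ξ _) b').symm)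
    obtain ⟨r, hr⟩ := (ConcreteCategory.bijective_of_isIso p.appTop).2 w
    refine ⟨r, ?_⟩
    show f.appTop r = s
    rw [← hw, ← hr, ← hap]
    rfl
  have hRS : Function.Injective (algebraMap Γ(Y, ⊤) Γ(X, ⊤)) := fun r r' h => by
    refine (ConcreteCategory.bijective_of_isIso p.appTop).1 (sections_injective hpo ⊤ _ _ ?_ (hinj ?_))
    · subst hap; exact h
    · have h1 : jB (algebraMap _ _ r) = jB (algebraMap _ _ r') := by
        rw [AlgHom.commutes, AlgHom.commutes, ← jS.commutes r, ← jS.commutes r', h]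
      subst hbp
      exact h1
  obtain ⟨hex, hun⟩ := EtaleSat.existsUnique_baseChange jS jB hinj hRS hker Γ(Y', ⊤)
  -- the base changes
  let pX := pullback.snd f g
  let pT := pullback.snd t g
  let pZ := pullback.snd (ι ≫ f) g
  haveI : IsAffine (pullback t g) := isAffine_of_isAffineHom (pullback.snd t g)
  haveI : IsAffineHom (ι ≫ f) := by rw [hsq]; infer_instance
  haveI : IsAffine (pullback (ι ≫ f) g) := isAffine_of_isAffineHom (pullback.snd (ι ≫ f) g)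
  let ιT : pullback (ι ≫ f) g ⟶ pullback f g :=
    pullback.lift (pullback.fst _ _ ≫ ι) pZ (by rw [Category.assoc]; exact pullback.condition)
  let qT : pullback (ι ≫ f) g ⟶ pullback t g :=
    pullback.lift (pullback.fst _ _ ≫ ξ) pZ (by rw [Category.assoc, ← hsq]; exact pullback.condition)
  let πT : pullback f g ⟶ pullback p g :=
    pullback.lift (pullback.fst _ _ ≫ a) pX (by rw [Category.assoc, hap]; exact pullback.condition)
  let ι'T : pullback t g ⟶ pullback p g :=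
    pullback.lift (pullback.fst _ _ ≫ b) pT (by rw [Category.assoc, hbp]; exact pullback.condition)
  have hpoT : IsPushout (toSh.map ιT) (toSh.map qT) (toSh.map πT) (toSh.map ι'T) :=
    isPushout_cokerBaseChange (fX := f) (fZ' := t) (fX' := p) hsq.symm hap hbp hpo
      (IsPullback.of_hasPullback f g) (IsPullback.of_hasPullback (ι ≫ f) g)
      (IsPullback.of_hasPullback t g) (IsPullback.of_hasPullback p g)
      (pullback.lift_fst _ _ _) (pullback.lift_snd _ _ _) (pullback.lift_fst _ _ _) (pullback.lift_snd _ _ _)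
      (pullback.lift_fst _ _ _) (pullback.lift_snd _ _ _) (pullback.lift_fst _ _ _) (pullback.lift_snd _ _ _)
      (exists_good f t ξ ι hsq hstd a b hP hv p hap hbp)
  obtain ⟨θX, hθX, hθX'⟩ := exists_bijective hcf
  obtain ⟨θT, hθT, hθT'⟩ := exists_bijective (isPushout_appTop (IsPullback.of_hasPullback t g))
  have hZpo : IsPushout (ξ ≫ t).appTop g.appTop (pullback.fst (ι ≫ f) g).appTop pZ.appTop := by
    have h := isPushout_appTop (IsPullback.of_hasPullback (ι ≫ f) g)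
    rwa [show (ι ≫ f).appTop = (ξ ≫ t).appTop by rw [hsq]] at h
  obtain ⟨θZ, hθZ, hθZ'⟩ := exists_bijective hZpo
  have natX : ∀ z, ιT.appTop (θX z) = θZ (Algebra.TensorProduct.map (AlgHom.id Γ(Y, ⊤) Γ(Y', ⊤)) jS z) := fun z => by
    induction z using TensorProduct.induction_on with
    | zero => simp
    | add u v hu hv' => simp [map_add, hu, hv']
    | tmul a' s =>
      rw [Algebra.TensorProduct.map_tmul, hθX', hθZ', map_mul]
      have e1 : pX.appTop ≫ ιT.appTop = pZ.appTop := by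
        rw [← Scheme.Hom.comp_appTop, pullback.lift_snd]
      have e2 : (pullback.fst f g).appTop ≫ ιT.appTop = ι.appTop ≫ (pullback.fst (ι ≫ f) g).appTop := by
        rw [← Scheme.Hom.comp_appTop, pullback.lift_fst, Scheme.Hom.comp_appTop]
      exact congrArg₂ (· * ·) (ConcreteCategory.congr_hom e1 a') (ConcreteCategory.congr_hom e2 s)
  have natT : ∀ z, qT.appTop (θT z) = θZ (Algebra.TensorProduct.map (AlgHom.id Γ(Y, ⊤) Γ(Y', ⊤)) jB z) := fun z => by
    induction z using TensorProduct.induction_on with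
    | zero => simp
    | add u v hu hv' => simp [map_add, hu, hv']
    | tmul a' s =>
      rw [Algebra.TensorProduct.map_tmul, hθT', hθZ', map_mul]
      have e1 : pT.appTop ≫ qT.appTop = pZ.appTop := by
        rw [← Scheme.Hom.comp_appTop, pullback.lift_snd]
      have e2 : (pullback.fst t g).appTop ≫ qT.appTop = ξ.appTop ≫ (pullback.fst (ι ≫ f) g).appTop := by
        rw [← Scheme.Hom.comp_appTop, pullback.lift_fst, Scheme.Hom.comp_appTop]
      exact congrArg₂ (· * ·) (ConcreteCategory.congr_hom e1 a') (ConcreteCategory.congr_hom e2 s)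
  have eX : (pullback.snd p g).appTop ≫ πT.appTop = pX.appTop := by
    rw [← Scheme.Hom.comp_appTop, pullback.lift_snd]
  have eT : (pullback.snd p g).appTop ≫ ι'T.appTop = pT.appTop := by
    rw [← Scheme.Hom.comp_appTop, pullback.lift_snd]
  constructor
  · intro c c' h
    have h1 : pX.appTop c = pX.appTop c' := by
      rw [← eX, CommRingCat.comp_apply, CommRingCat.comp_apply, h]
    refine hun (hθX.1 ?_)
    show θX (c ⊗ₜ[Γ(Y, ⊤)] 1) = θX (c' ⊗ₜ[Γ(Y, ⊤)] 1)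
    rw [hθX', hθX', map_one, mul_one, mul_one, h1]
  · intro w
    obtain ⟨x, hx⟩ := hθX.2 (πT.appTop w)
    obtain ⟨y, hy⟩ := hθT.2 (ι'T.appTop w)
    obtain ⟨c, hcx, hcy⟩ := hex x y (hθZ.1 (by
      rw [← natX, ← natT, hx, hy, ← CommRingCat.comp_apply, ← CommRingCat.comp_apply,
        ← Scheme.Hom.comp_appTop, ← Scheme.Hom.comp_appTop, w_of_ringed hpoT]))
    refine ⟨c, sections_injective hpoT ⊤ _ _ ?_ ?_⟩
    · show πT.appTop ((pullback.snd p g).appTop c) = πT.appTop w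
      rw [← CommRingCat.comp_apply, eX, ← hx, ← hcx, hθX', map_one, mul_one]
    · show ι'T.appTop ((pullback.snd p g).appTop c) = ι'T.appTop w
      rw [← CommRingCat.comp_apply, eT, ← hy, ← hcy, hθT', map_one, mul_one]

end Groth.Agent.PinchLib.CohFlat
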