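import Mathlib

/-! Saturation of the kernel of a difference map out of an étale algebra. -/

set_option autoImplicit false

universe u

open Polynomial

namespace Groth.Agent.PinchLib.EtaleSat

variable {R S B C : Type u} [CommRing R] [CommRing S] [CommRing B] [CommRing C]
  [Algebra R S] [Algebra R B] [Algebra R C]

/-- Every element of a finite product of separable extensions of a field is a root of a separable polynomial. -/
theorem exists_separable_aeval {k S' : Type u} [Field k] [CommRing S'] [Algebra k S']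
    [Algebra.Etale k S'] (x : S') : ∃ g : k[X], g.Monic ∧ g.Separable ∧ aeval x g = 0 := by
  classical
  obtain ⟨I, _, Ai, _, _, e, hsep⟩ :=
    (Algebra.FormallyEtale.iff_exists_algEquiv_prod (K := k) (A := S')).mp inferInstance
  cases nonempty_fintype I
  let s : Finset k[X] := Finset.univ.image fun i => minpoly k (e x i)
  have hs : ∀ p ∈ s, p.Monic ∧ Irreducible p ∧ p.Separable := fun p hp => by
    obtain ⟨i, -, rfl⟩ := Finset.mem_image.mp hp
    haveI := hsep i
    have hi : IsIntegral k (e x i) := Algebra.IsIntegral.isIntegral _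
    exact ⟨minpoly.monic hi, minpoly.irreducible hi, Algebra.IsSeparable.isSeparable k (e x i)⟩
  refine ⟨∏ p ∈ s, p, monic_prod_of_monic _ _ fun p hp => (hs p hp).1, separable_prod'
    (fun p hp q hq hne => (hs p hp).2.1.coprime_iff_not_dvd.mpr fun hd => hne
      (eq_of_monic_of_associated (hs p hp).1 (hs q hq).1 ((hs p hp).2.1.associated_of_dvd (hs q hq).2.1 hd)))
    fun p hp => (hs p hp).2.2, e.injective (funext fun i => ?_)⟩
  rw [map_zero, Pi.zero_apply, ← aeval_algHom_apply e]
  show Pi.evalAlgHom k Ai i (aeval (e x) _) = 0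
  rw [← aeval_algHom_apply]
  show aeval (e x i) _ = 0
  rw [map_prod]
  exact Finset.prod_eq_zero (Finset.mem_image_of_mem _ (Finset.mem_univ i)) (minpoly.aeval k _)

/-- A lift of a separable polynomial has unit derivative at approximate roots. -/
theorem isUnit_aeval_derivative {A : Type u} [CommRing A] [Algebra R A] (G U V : R[X])
    (hUV : ∀ z : A, IsNilpotent (aeval z (U * G + V * derivative G) - 1)) (z : A)
    (hz : IsNilpotent (aeval z G)) : IsUnit (aeval z (derivative G)) := by
  have h1 : IsNilpotent (aeval z V * aeval z (derivative G) - 1) := by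
    have h := hUV z
    rw [map_add, map_mul, map_mul] at h
    have := (Commute.all _ _).isNilpotent_sub h ((Commute.all (aeval z U) _).isNilpotent_mul_left hz)
    rwa [show aeval z U * aeval z G + aeval z V * aeval z (derivative G) - 1 - aeval z U * aeval z G =
      aeval z V * aeval z (derivative G) - 1 by ring] at this
  have h2 := IsNilpotent.isUnit_add_one h1
  rw [sub_add_cancel] at h2
  exact isUnit_of_mul_isUnit_right h2

variable (jS : S →ₐ[R] C) (jB : B →ₐ[R] C)

theorem map_mem {A : Type u} [CommRing A] [Algebra R A] (j : A →ₐ[R] C) (I : Ideal R) {z : A}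
    (hz : z ∈ I.map (algebraMap R A)) : j z ∈ I.map (algebraMap R C) := by
  have := Ideal.mem_map_of_mem j.toRingHom hz
  rw [Ideal.map_map, show j.toRingHom.comp (algebraMap R A) = algebraMap R C from j.comp_algebraMap] at this
  exact this

/-- Modulo every power of a maximal ideal, an element with compatible images lifts to compatible roots. -/
theorem exists_approx [Algebra.Etale R S] (ρ : C →ₗ[R] B) (hρ : ∀ b, ρ (jB b) = b)
    (m : Ideal R) [m.IsMaximal] (x : S) (b₀ : B) (hx : jS x - jB b₀ ∈ m.map (algebraMap R C)) (n : ℕ) :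
    ∃ (s : S) (b : B), s - x ∈ m.map (algebraMap R S) ∧
      jS s - jB b ∈ (m ^ (n + 1)).map (algebraMap R C) := by
  letI := Ideal.Quotient.field m
  let k := R ⧸ m
  let S' := TensorProduct R k S
  obtain ⟨g, hgm, hgs, hg⟩ := exists_separable_aeval (k := k) (1 ⊗ₜ[R] x : S')
  obtain ⟨G, hG⟩ := Polynomial.map_surjective (Ideal.Quotient.mk m) Ideal.Quotient.mk_surjective g
  obtain ⟨u, v, huv⟩ := hgs
  obtain ⟨U, hU⟩ := Polynomial.map_surjective (Ideal.Quotient.mk m) Ideal.Quotient.mk_surjective u
  obtain ⟨V, hV⟩ := Polynomial.map_surjective (Ideal.Quotient.mk m) Ideal.Quotient.mk_surjective v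
  have hmS : ∀ y : S, (1 ⊗ₜ[R] y : S') = 0 → y ∈ m.map (algebraMap R S) := fun y hy => by
    have h := (TensorProduct.quotTensorEquivQuotSMul S m).map_eq_zero_iff.mpr hy
    rw [show (1 : k) = Ideal.Quotient.mk m 1 from (map_one _).symm, TensorProduct.quotTensorEquivQuotSMul_mk_tmul, one_smul, Submodule.Quotient.mk_eq_zero,
      Ideal.smul_top_eq_map] at h
    exact h
  have hGx : aeval x G ∈ m.map (algebraMap R S) := by
    refine hmS _ ?_
    show Algebra.TensorProduct.includeRight (aeval x G) = (0 : S')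
    rw [← aeval_algHom_apply]
    show aeval (1 ⊗ₜ[R] x : S') G = 0
    rw [← aeval_map_algebraMap k (1 ⊗ₜ[R] x : S') G,
      show algebraMap R k = Ideal.Quotient.mk m from rfl, hG, hg]
  have hG1 : ∀ i, (U * G + V * derivative G - 1).coeff i ∈ m := fun i => by
    rw [← Ideal.Quotient.eq_zero_iff_mem, ← coeff_map, Polynomial.map_sub, Polynomial.map_add,
      Polynomial.map_mul, Polynomial.map_mul, ← derivative_map, hU, hV, hG, huv, Polynomial.map_one,
      sub_self, coeff_zero]
  have hpoly : ∀ {A : Type u} [CommRing A] [Algebra R A], ∀ (z : A),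
      aeval z (U * G + V * derivative G - 1) ∈ m.map (algebraMap R A) := fun {A} _ _ z => by
    rw [aeval_eq_sum_range]
    exact Ideal.sum_mem _ fun i _ => by
      rw [Algebra.smul_def]
      exact Ideal.mul_mem_right _ _ (Ideal.mem_map_of_mem _ (hG1 i))
  -- passage to the quotients by the power
  let I : ∀ (A : Type u) [CommRing A] [Algebra R A], Ideal A :=
    fun A _ _ => (m ^ (n + 1)).map (algebraMap R A)
  have hnil : ∀ {A : Type u} [CommRing A] [Algebra R A], ∀ (z : A), z ∈ m.map (algebraMap R A) →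
      IsNilpotent (Ideal.Quotient.mkₐ R (I A) z) := fun {A} _ _ z hz => ⟨n + 1, by
    rw [← map_pow]
    refine Ideal.Quotient.eq_zero_iff_mem.mpr ?_
    show _ ∈ (m ^ (n + 1)).map (algebraMap R A)
    rw [Ideal.map_pow]
    exact Ideal.pow_mem_pow hz _⟩
  have hroot : ∀ {A : Type u} [CommRing A] [Algebra R A], ∀ (z : A), aeval z G ∈ m.map (algebraMap R A) →
      ∃ w : A, IsNilpotent (Ideal.Quotient.mkₐ R (I A) z - Ideal.Quotient.mkₐ R (I A) w) ∧
        aeval (Ideal.Quotient.mkₐ R (I A) w) G = 0 := fun {A} _ _ z hz => by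
    have h1 : IsNilpotent (aeval (Ideal.Quotient.mkₐ R (I A) z) G) := by
      rw [aeval_algHom_apply]; exact hnil _ hz
    have h2 : IsUnit (aeval (Ideal.Quotient.mkₐ R (I A) z) (derivative G)) := by
      refine isUnit_aeval_derivative G U V (fun w => ?_) _ h1
      obtain ⟨w, rfl⟩ := Ideal.Quotient.mkₐ_surjective R (I A) w
      have h := hnil _ (hpoly w)
      rwa [← aeval_algHom_apply, map_sub, map_one] at h
    obtain ⟨r, ⟨hr, hr'⟩, -⟩ := existsUnique_nilpotent_sub_and_aeval_eq_zero h1 h2
    obtain ⟨w, rfl⟩ := Ideal.Quotient.mkₐ_surjective R (I A) r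
    exact ⟨w, hr, hr'⟩
  have hmB : aeval b₀ G ∈ m.map (algebraMap R B) := by
    have h : jB (aeval b₀ G) ∈ m.map (algebraMap R C) := by
      obtain ⟨w, hw⟩ := sub_dvd_eval_sub (jB b₀) (jS x) (G.map (algebraMap R C))
      rw [eval_map_algebraMap, eval_map_algebraMap] at hw
      rw [← aeval_algHom_apply, show aeval (jB b₀) G = aeval (jS x) G + (jB b₀ - jS x) * w by rw [← hw]; ring]
      refine Ideal.add_mem _ ?_ (Ideal.mul_mem_right _ _ ?_)
      · rw [aeval_algHom_apply]
        exact map_mem jS m hGx
      · rw [← neg_sub]; exact neg_mem hx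
    rw [← Submodule.restrictScalars_mem R, ← Ideal.smul_top_eq_map] at h ⊢
    rw [← hρ (aeval b₀ G)]
    refine (Submodule.map_le_iff_le_comap.mpr ?_) (Submodule.mem_map_of_mem (f := ρ) h)
    rw [← Submodule.map_le_iff_le_comap, Submodule.map_smul'']
    exact Submodule.smul_mono le_rfl le_top
  obtain ⟨s, hs, hs'⟩ := hroot x hGx
  obtain ⟨b, hb, hb'⟩ := hroot b₀ hmB
  refine ⟨s, b, ?_, ?_⟩
  · -- nilpotents vanish in the reduced fibre
    obtain ⟨N, hN⟩ := hs
    rw [← map_sub, ← map_pow] at hN
    haveI : IsReduced S' := by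
      obtain ⟨J, _, Ai, _, _, e, -⟩ :=
        (Algebra.FormallyEtale.iff_exists_algEquiv_prod (K := k) (A := S')).mp inferInstance
      exact isReduced_of_injective e e.injective
    refine hmS _ (IsReduced.eq_zero _ ⟨N, ?_⟩)
    show (Algebra.TensorProduct.includeRight (s - x) : S') ^ N = 0
    rw [← map_pow, ← neg_sub x s, neg_pow, map_mul]
    have : (x - s) ^ N ∈ m.map (algebraMap R S) :=
      Ideal.map_mono (Ideal.pow_le_self (Nat.succ_ne_zero n)) (Ideal.Quotient.eq_zero_iff_mem.mp hN)
    rw [← Submodule.restrictScalars_mem R, ← Ideal.smul_top_eq_map] at this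
    rw [show (Algebra.TensorProduct.includeRight ((x - s) ^ N) : S') = 0 from
      (TensorProduct.quotTensorEquivQuotSMul S m).injective (by
        rw [map_zero, Algebra.TensorProduct.includeRight_apply,
          show (1 : k) = Ideal.Quotient.mk m 1 from (map_one _).symm, TensorProduct.quotTensorEquivQuotSMul_mk_tmul, one_smul, Submodule.Quotient.mk_eq_zero]
        exact this), mul_zero]
  · let π := Ideal.Quotient.mkₐ R (I C)
    have hlift : ∀ {A : Type u} [CommRing A] [Algebra R A] (j : A →ₐ[R] C) (w : A),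
        aeval (Ideal.Quotient.mkₐ R (I A) w) G = 0 → aeval (π (j w)) G = 0 := fun {A} _ _ j w hw => by
      rw [aeval_algHom_apply, aeval_algHom_apply]
      rw [aeval_algHom_apply] at hw
      refine Ideal.Quotient.eq_zero_iff_mem.mpr ?_
      exact map_mem j (m ^ (n + 1)) (Ideal.Quotient.eq_zero_iff_mem.mp hw)
    have hnl : ∀ {A : Type u} [CommRing A] [Algebra R A] (j : A →ₐ[R] C) (z w : A),
        IsNilpotent (Ideal.Quotient.mkₐ R (I A) z - Ideal.Quotient.mkₐ R (I A) w) →
          IsNilpotent (π (j z) - π (j w)) := fun {A} _ _ j z w h => by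
      obtain ⟨N, hN⟩ := h
      refine ⟨N, ?_⟩
      rw [← map_sub, ← map_pow] at hN
      rw [← map_sub, ← map_sub, ← map_pow, ← map_pow]
      refine Ideal.Quotient.eq_zero_iff_mem.mpr ?_
      exact map_mem j (m ^ (n + 1)) (Ideal.Quotient.eq_zero_iff_mem.mp hN)
    have hd : IsNilpotent (π (jS x) - π (jB b₀)) := by rw [← map_sub]; exact hnil _ hx
    have hn1 : IsNilpotent (π (jS x) - π (jB b)) := by
      have := (Commute.all _ _).isNilpotent_add hd (hnl jB _ _ hb)
      rwa [sub_add_sub_cancel] at this
    have hz : IsNilpotent (aeval (π (jS x)) G) := by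
      rw [aeval_algHom_apply]
      refine hnil _ ?_
      rw [aeval_algHom_apply]
      exact map_mem jS m hGx
    have hz' : IsUnit (aeval (π (jS x)) (derivative G)) := by
      refine isUnit_aeval_derivative G U V (fun w => ?_) _ hz
      obtain ⟨w, rfl⟩ := Ideal.Quotient.mkₐ_surjective R (I C) w
      have h := hnil _ (hpoly w)
      rwa [← aeval_algHom_apply, map_sub, map_one] at h
    have := (existsUnique_nilpotent_sub_and_aeval_eq_zero hz hz').unique
      ⟨hnl jS _ _ hs, hlift jS s hs'⟩ ⟨hn1, hlift jB b hb'⟩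
    rw [← sub_eq_zero, ← map_sub] at this
    exact Ideal.Quotient.eq_zero_iff_mem.mp this

end Groth.Agent.PinchLib.EtaleSat
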