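import Groth.Agent.PinchLib.EtaleSat

/-! The kernel of the difference map out of an étale algebra is a universal kernel. -/

set_option autoImplicit false

universe u

open TensorProduct

namespace Groth.Agent.PinchLib.EtaleSat

variable {R S B C : Type u} [CommRing R] [IsDedekindDomain R] [CommRing S] [CommRing B] [CommRing C]
  [Algebra R S] [Algebra R B] [Algebra R C] [Algebra.Etale R S] [Module.Finite R C]
  (jS : S →ₐ[R] C) (jB : B →ₐ[R] C)

/-- The difference map into the cokernel. -/
noncomputable def δ : S →ₗ[R] C ⧸ LinearMap.range jB.toLinearMap :=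
  (LinearMap.range jB.toLinearMap).mkQ ∘ₗ jS.toLinearMap

theorem saturated (ρ : C →ₗ[R] B) (hρ : ∀ b, ρ (jB b) = b) (m : Ideal R) [m.IsMaximal] (x : S)
    (hx : δ jS jB x ∈ m • (⊤ : Submodule R (C ⧸ LinearMap.range jB.toLinearMap))) :
    δ jS jB x ∈ m • LinearMap.range (δ jS jB) := by
  set Q := C ⧸ LinearMap.range jB.toLinearMap
  obtain ⟨k, hk⟩ := Ideal.exists_pow_inf_eq_pow_smul m (LinearMap.range (δ jS jB))
  have hlift : ∀ (I : Ideal R) (c : C), c ∈ I.map (algebraMap R C) →
      (LinearMap.range jB.toLinearMap).mkQ c ∈ I • (⊤ : Submodule R Q) := fun I c hc => by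
    rw [← Submodule.restrictScalars_mem R, ← Ideal.smul_top_eq_map] at hc
    have := Submodule.mem_map_of_mem (f := (LinearMap.range jB.toLinearMap).mkQ) hc
    rwa [Submodule.map_smul'', Submodule.map_top, Submodule.range_mkQ] at this
  obtain ⟨c, hc, hce⟩ : ∃ c ∈ m.map (algebraMap R C),
      (LinearMap.range jB.toLinearMap).mkQ c = δ jS jB x := by
    have h : δ jS jB x ∈ Submodule.map (LinearMap.range jB.toLinearMap).mkQ (m • ⊤) := by
      rw [Submodule.map_smul'', Submodule.map_top, Submodule.range_mkQ]; exact hx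
    obtain ⟨c, hc, hce⟩ := h
    rw [SetLike.mem_coe, Ideal.smul_top_eq_map, Submodule.restrictScalars_mem] at hc
    exact ⟨c, hc, hce⟩
  obtain ⟨b₀, hb₀⟩ : jS x - c ∈ LinearMap.range jB.toLinearMap := (Submodule.Quotient.eq _).mp hce.symm
  obtain ⟨s, b, hs, hsb⟩ := exists_approx jS jB ρ hρ m x b₀
    (by rw [show jB b₀ = jS x - c from hb₀, sub_sub_cancel]; exact hc) k
  have h1 : δ jS jB s ∈ m ^ (k + 1) • (⊤ : Submodule R Q) := by
    have h := hlift _ _ hsb
    rwa [map_sub, show (LinearMap.range jB.toLinearMap).mkQ (jB b) = 0 from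
      (Submodule.Quotient.mk_eq_zero _).mpr ⟨b, rfl⟩, sub_zero] at h
  have h2 : δ jS jB s ∈ m • LinearMap.range (δ jS jB) := by
    have h := hk (k + 1) (Nat.le_succ k)
    have h' : δ jS jB s ∈ m ^ (k + 1) • (⊤ : Submodule R Q) ⊓ LinearMap.range (δ jS jB) :=
      ⟨h1, LinearMap.mem_range_self _ _⟩
    rw [h, Nat.add_sub_cancel_left, pow_one] at h'
    exact Submodule.smul_mono le_rfl inf_le_right h'
  have h3 : δ jS jB (s - x) ∈ m • LinearMap.range (δ jS jB) := by
    rw [← Submodule.restrictScalars_mem R, ← Ideal.smul_top_eq_map] at hs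
    have := Submodule.mem_map_of_mem (f := δ jS jB) hs
    rwa [Submodule.map_smul'', Submodule.map_top] at this
  have := Submodule.sub_mem _ h2 h3
  rwa [← map_sub, sub_sub_cancel] at this

/-- The image of the difference map is saturated. -/
theorem mem_range_of_smul_mem [Module.Projective R (C ⧸ LinearMap.range jB.toLinearMap)]
    (ρ : C →ₗ[R] B) (hρ : ∀ b, ρ (jB b) = b) (r : R) (hr : r ≠ 0)
    (q : C ⧸ LinearMap.range jB.toLinearMap) (h : r • q ∈ LinearMap.range (δ jS jB)) :
    q ∈ LinearMap.range (δ jS jB) := by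
  set M := LinearMap.range (δ jS jB)
  let I : Ideal R := M.comap (LinearMap.toSpanSingleton R _ q)
  by_contra hq
  have hI : I ≠ ⊤ := fun e => hq (by
    have h1 : (1 : R) ∈ I := by rw [e]; exact Submodule.mem_top
    simpa [I] using h1)
  obtain ⟨m, hm, hIm⟩ := Ideal.exists_le_maximal I hI
  haveI := hm
  have hI0 : I ≠ ⊥ := fun e => hr (by
    have h1 : r ∈ I := h
    rwa [e, Ideal.mem_bot] at h1)
  have hm0 : m ≠ ⊥ := fun e => hI0 (le_bot_iff.mp (e ▸ hIm))
  obtain ⟨J, hJ⟩ := Ideal.dvd_iff_le.mpr hIm
  -- elements killed into the image by `m` are in the image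
  have key : ∀ z, (∀ a ∈ m, a • z ∈ M) → z ∈ M := fun z hz => by
    obtain ⟨a, ha, ha0⟩ := Submodule.exists_mem_ne_zero_of_ne_bot hm0
    obtain ⟨J', hJ'⟩ := Ideal.dvd_iff_le.mpr ((Ideal.span_singleton_le_iff_mem _).mpr ha)
    have hmz : ∀ c ∈ m, c • z ∈ m • M := fun c hc => by
      obtain ⟨x, hx⟩ := hz c hc
      rw [← hx]
      exact saturated jS jB ρ hρ m x (hx ▸ Submodule.smul_mem_smul hc Submodule.mem_top)
    have haz : a • z ∈ Ideal.span {a} • M := by
      have h1 : ∀ w ∈ J' * m, w • z ∈ (J' * m) • M := fun w hw => by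
        refine Submodule.mul_induction_on hw (fun e he c hc => ?_) fun u v hu hv => ?_
        · rw [show (J' * m) • M = J' • m • M from Submodule.smul_assoc _ _ _, ← smul_smul]
          exact Submodule.smul_mem_smul he (hmz c hc)
        · rw [add_smul]; exact add_mem hu hv
      rw [hJ', mul_comm]
      exact h1 a (by rw [mul_comm, ← hJ']; exact Ideal.mem_span_singleton_self a)
    rw [Submodule.ideal_span_singleton_smul] at haz
    obtain ⟨y, hy, hye⟩ := haz
    rw [← (smul_right_injective _ ha0 hye : y = z)]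
    exact hy
  have hJI : J ≤ I := fun c hc => key _ fun a ha => by
    rw [show LinearMap.toSpanSingleton R _ q c = c • q from rfl, smul_smul]
    exact (show a * c ∈ I by rw [hJ]; exact Ideal.mul_mem_mul ha hc)
  have hJ0 : J ≠ 0 := fun e => hI0 (by rw [hJ, e, mul_zero]; rfl)
  have hIJ : I = J := le_antisymm (hJ ▸ Ideal.mul_le_right) hJI
  exact hm.ne_top (((mul_left_eq_self₀.mp (hJ.symm.trans hIJ)).resolve_right hJ0).trans Ideal.one_eq_top)

/-- The fibre product of `S` and `B` over `C` is `R`, universally. -/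
theorem existsUnique_baseChange [Module.Projective R (C ⧸ LinearMap.range jB.toLinearMap)]
    (hinj : Function.Injective jB) (hRS : Function.Injective (algebraMap R S))
    (hker : ∀ s b, jS s = jB b → ∃ r, algebraMap R S r = s)
    (A : Type u) [CommRing A] [Algebra R A] :
    (∀ (x : A ⊗[R] S) (y : A ⊗[R] B),
      Algebra.TensorProduct.map (AlgHom.id R A) jS x = Algebra.TensorProduct.map (AlgHom.id R A) jB y →
      ∃ a : A, a ⊗ₜ[R] (1 : S) = x ∧ a ⊗ₜ[R] (1 : B) = y) ∧
    Function.Injective fun a : A => a ⊗ₜ[R] (1 : S) := by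
  set Q := C ⧸ LinearMap.range jB.toLinearMap
  -- a retraction of `jB`
  obtain ⟨σQ, hσQ⟩ := Module.projective_lifting_property (LinearMap.range jB.toLinearMap).mkQ
    (LinearMap.id : Q →ₗ[R] Q) (Submodule.mkQ_surjective _)
  let eB := LinearEquiv.ofInjective jB.toLinearMap hinj
  let ρ : C →ₗ[R] B := eB.symm.toLinearMap ∘ₗ
    LinearMap.codRestrict (LinearMap.range jB.toLinearMap)
      (LinearMap.id - σQ ∘ₗ (LinearMap.range jB.toLinearMap).mkQ) fun c => by
        rw [← Submodule.Quotient.mk_eq_zero (LinearMap.range jB.toLinearMap)]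
        have := LinearMap.congr_fun hσQ ((LinearMap.range jB.toLinearMap).mkQ c)
        simp only [LinearMap.comp_apply, LinearMap.id_apply] at this
        simp only [LinearMap.sub_apply, LinearMap.comp_apply, LinearMap.id_apply, Submodule.Quotient.mk_sub,
          sub_eq_zero]
        exact this.symm
  have hρ : ∀ b, ρ (jB b) = b := fun b => eB.injective (Subtype.ext (by
    have h0 : (LinearMap.range jB.toLinearMap).mkQ (jB b) = 0 :=
      (Submodule.Quotient.mk_eq_zero _).mpr ⟨b, rfl⟩
    simp only [ρ, LinearMap.comp_apply, LinearEquiv.coe_coe, LinearEquiv.apply_symm_apply,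
      LinearMap.codRestrict_apply, LinearMap.sub_apply, LinearMap.id_apply, h0, map_zero, sub_zero]
    rfl))
  -- the cokernel of `δ` is projective
  haveI : Module.IsTorsionFree R (Q ⧸ LinearMap.range (δ jS jB)) := by
    rw [Submodule.isTorsionFree_iff_torsion_eq_bot, eq_bot_iff]
    rintro z ⟨⟨r, hr⟩, hrz⟩
    obtain ⟨q, rfl⟩ := Submodule.Quotient.mk_surjective _ z
    change r • (Submodule.Quotient.mk (p := LinearMap.range (δ jS jB)) q) = 0 at hrz
    rw [← Submodule.Quotient.mk_smul, Submodule.Quotient.mk_eq_zero] at hrz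
    rw [Submodule.mem_bot, Submodule.Quotient.mk_eq_zero]
    exact mem_range_of_smul_mem jS jB ρ hρ r (nonZeroDivisors.ne_zero hr) q hrz
  haveI : Module.FinitePresentation R (Q ⧸ LinearMap.range (δ jS jB)) :=
    Module.finitePresentation_of_finite R _
  haveI : Module.Projective R (Q ⧸ LinearMap.range (δ jS jB)) := Module.Flat.projective_of_finitePresentation
  -- split the two maps
  obtain ⟨σN, hσN⟩ := Module.projective_lifting_property (LinearMap.range (δ jS jB)).mkQ
    (LinearMap.id : (Q ⧸ LinearMap.range (δ jS jB)) →ₗ[R] _) (Submodule.mkQ_surjective _)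
  let pM : Q →ₗ[R] LinearMap.range (δ jS jB) := LinearMap.codRestrict _
    (LinearMap.id - σN ∘ₗ (LinearMap.range (δ jS jB)).mkQ) fun c => by
      rw [← Submodule.Quotient.mk_eq_zero (LinearMap.range (δ jS jB))]
      have := LinearMap.congr_fun hσN ((LinearMap.range (δ jS jB)).mkQ c)
      simp only [LinearMap.comp_apply, LinearMap.id_apply] at this
      simp only [LinearMap.sub_apply, LinearMap.comp_apply, LinearMap.id_apply, Submodule.Quotient.mk_sub,
        sub_eq_zero]
      exact this.symm
  have hpM : ∀ y, pM (δ jS jB y) = (δ jS jB).rangeRestrict y := fun y => Subtype.ext (by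
    have h0 : (LinearMap.range (δ jS jB)).mkQ (δ jS jB y) = 0 :=
      (Submodule.Quotient.mk_eq_zero _).mpr ⟨y, rfl⟩
    simp only [pM, LinearMap.codRestrict_apply, LinearMap.sub_apply, LinearMap.comp_apply,
      LinearMap.id_apply, h0, map_zero, sub_zero]
    try rfl)
  haveI : Module.Projective R (LinearMap.range (δ jS jB)) := by
    refine Module.Projective.of_split (LinearMap.range (δ jS jB)).subtype pM (LinearMap.ext fun w => ?_)
    obtain ⟨_, y, rfl⟩ := w
    exact hpM y
  obtain ⟨σS, hσS⟩ := Module.projective_lifting_property (δ jS jB).rangeRestrict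
    (LinearMap.id : LinearMap.range (δ jS jB) →ₗ[R] _) (LinearMap.surjective_rangeRestrict _)
  let e1 := LinearEquiv.ofInjective (Algebra.linearMap R S) hRS
  have hkerδ : ∀ y, δ jS jB y = 0 → y ∈ LinearMap.range (Algebra.linearMap R S) := fun y hy => by
    obtain ⟨b, hb⟩ := (Submodule.Quotient.mk_eq_zero _).mp hy
    obtain ⟨r, hr⟩ := hker y b hb.symm
    exact ⟨r, hr⟩
  let ρ₁ : S →ₗ[R] R := e1.symm.toLinearMap ∘ₗ LinearMap.codRestrict _
    (LinearMap.id - σS ∘ₗ pM ∘ₗ δ jS jB) fun y => hkerδ _ (by
      have := congrArg Subtype.val (LinearMap.congr_fun hσS (pM (δ jS jB y)))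
      simp only [LinearMap.comp_apply, LinearMap.id_apply, hpM] at this
      simp only [LinearMap.sub_apply, LinearMap.comp_apply, LinearMap.id_apply, map_sub, hpM]
      exact sub_eq_zero.mpr this.symm)
  have hρ₁ : ∀ y, algebraMap R S (ρ₁ y) + σS (pM (δ jS jB y)) = y := fun y => by
    have h := congrArg Subtype.val (e1.apply_symm_apply (LinearMap.codRestrict _
      (LinearMap.id - σS ∘ₗ pM ∘ₗ δ jS jB) (fun y => hkerδ _ (by
      have := congrArg Subtype.val (LinearMap.congr_fun hσS (pM (δ jS jB y)))
      simp only [LinearMap.comp_apply, LinearMap.id_apply, hpM] at this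
      simp only [LinearMap.sub_apply, LinearMap.comp_apply, LinearMap.id_apply, map_sub, hpM]
      exact sub_eq_zero.mpr this.symm)) y))
    change algebraMap R S (ρ₁ y) = y - σS (pM (δ jS jB y)) at h
    rw [h, sub_add_cancel]
  have hρ₁1 : ρ₁ 1 = 1 := hRS (by
    have h0 : δ jS jB 1 = 0 := (Submodule.Quotient.mk_eq_zero _).mpr ⟨1, by simp⟩
    have := hρ₁ 1
    rw [h0, map_zero, map_zero, add_zero] at this
    exact this.trans (map_one _).symm)
  constructor
  · intro x y hxy
    have hδ : (δ jS jB).lTensor A x = 0 := by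
      have h1 : ∀ z : A ⊗[R] S, (δ jS jB).lTensor A z = (LinearMap.range jB.toLinearMap).mkQ.lTensor A
          (Algebra.TensorProduct.map (AlgHom.id R A) jS z) := fun z => by
        induction z using TensorProduct.induction_on with
        | zero => simp
        | tmul a s => rfl
        | add u v hu hv => simp [map_add, hu, hv]
      have h2 : ∀ z : A ⊗[R] B, (LinearMap.range jB.toLinearMap).mkQ.lTensor A
          (Algebra.TensorProduct.map (AlgHom.id R A) jB z) = 0 := fun z => by
        induction z using TensorProduct.induction_on with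
        | zero => simp
        | tmul a b =>
          show a ⊗ₜ[R] (LinearMap.range jB.toLinearMap).mkQ (jB b) = 0
          rw [show (LinearMap.range jB.toLinearMap).mkQ (jB b) = 0 from
            (Submodule.Quotient.mk_eq_zero _).mpr ⟨b, rfl⟩, TensorProduct.tmul_zero]
        | add u v hu hv => simp [map_add, hu, hv]
      rw [h1, hxy, h2]
    have hx : ∀ z : A ⊗[R] S, z = (TensorProduct.rid R A (ρ₁.lTensor A z)) ⊗ₜ[R] (1 : S) +
        (σS ∘ₗ pM).lTensor A ((δ jS jB).lTensor A z) := fun z => by
      induction z using TensorProduct.induction_on with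
      | zero => simp
      | tmul a s =>
        simp only [LinearMap.lTensor_tmul, TensorProduct.rid_tmul, LinearMap.comp_apply]
        rw [TensorProduct.smul_tmul, ← Algebra.algebraMap_eq_smul_one, ← TensorProduct.tmul_add, hρ₁]
      | add u v hu hv =>
        simp only [map_add, TensorProduct.add_tmul]
        conv_lhs => rw [hu, hv]
        abel
    have hxa := hx x
    rw [hδ, map_zero, add_zero] at hxa
    refine ⟨_, hxa.symm, ?_⟩
    have hB : ∀ z : A ⊗[R] B, z = ρ.lTensor A (Algebra.TensorProduct.map (AlgHom.id R A) jB z) := fun z => by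
      induction z using TensorProduct.induction_on with
      | zero => simp
      | tmul a b => simp [hρ]
      | add u v hu hv => simp only [map_add, ← hu, ← hv]
    rw [hB y, ← hxy]
    conv_rhs => rw [hxa]
    simp only [Algebra.TensorProduct.map_tmul, AlgHom.coe_id, id_eq, map_one, LinearMap.lTensor_tmul]
    rw [← map_one jB, hρ]
  · intro a a' h
    have := congrArg (fun z => TensorProduct.rid R A (ρ₁.lTensor A z)) h
    simpa [hρ₁1] using this

end Groth.Agent.PinchLib.EtaleSat
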