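import Groth.Agent.PinchLib.SchemePushout
import Groth.Agent.LimTop.PullSec
import Groth.Agent.LFFrame.Basic

/-!
# Locally free modules on a pushout of ringed spaces

For a square of schemes which is a pushout of ringed spaces, sections of a locally free module are
the pairs of sections of its two pullbacks which agree on the corner; so the functor to pairs with
a glueing isomorphism is fully faithful.
-/

set_option autoImplicit false
set_option backward.isDefEq.respectTransparency false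

universe u

open CategoryTheory Limits AlgebraicGeometry TopologicalSpace Opposite

noncomputable section

namespace Groth.Agent.PinchLib.FullFaith

open Groth.Agent.QCoh (res)
open Groth.Agent.LimTop (unitSec)

variable {X Y Z T : Scheme.{u}} {fX : Z ⟶ X} {fY : Z ⟶ Y} {gX : X ⟶ T} {gY : Y ⟶ T}
  (hw : fX ≫ gX = fY ≫ gY) (N : T.Modules)

/-- The pullback to the corner through the first leg. -/
def toCornerL : (Scheme.Modules.pullback fX).obj ((Scheme.Modules.pullback gX).obj N) ⟶
    (Scheme.Modules.pullback (fY ≫ gY)).obj N :=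
  (Scheme.Modules.pullbackComp fX gX).hom.app N ≫ (Scheme.Modules.pullbackCongr hw).hom.app N

/-- The pullback to the corner through the second leg. -/
def toCornerR : (Scheme.Modules.pullback fY).obj ((Scheme.Modules.pullback gY).obj N) ⟶
    (Scheme.Modules.pullback (fY ≫ gY)).obj N :=
  (Scheme.Modules.pullbackComp fY gY).hom.app N

/-- Sections of the first pullback restricted to the corner. -/
def cornerL {V : X.Opens} {W : Z.Opens} (h : W ≤ fX ⁻¹ᵁ V)
    (s : Γ((Scheme.Modules.pullback gX).obj N, V)) :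
    Γ((Scheme.Modules.pullback (fY ≫ gY)).obj N, W) :=
  (toCornerL hw N).app W (unitSec fX _ h s)

/-- Sections of the second pullback restricted to the corner. -/
def cornerR {V : Y.Opens} {W : Z.Opens} (h : W ≤ fY ⁻¹ᵁ V)
    (t : Γ((Scheme.Modules.pullback gY).obj N, V)) :
    Γ((Scheme.Modules.pullback (fY ≫ gY)).obj N, W) :=
  (toCornerR N).app W (unitSec fY _ h t)

lemma cornerL_unitSec {U : T.Opens} {V : X.Opens} {W : Z.Opens} (hV : V ≤ gX ⁻¹ᵁ U)
    (h : W ≤ fX ⁻¹ᵁ V) (h' : W ≤ (fY ≫ gY) ⁻¹ᵁ U) (m : Γ(N, U)) :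
    cornerL hw N h (unitSec gX N hV m) = unitSec (fY ≫ gY) N h' m := by
  refine (congrArg (((Scheme.Modules.pullbackCongr hw).hom.app N).app W)
    (LimTop.unitSec_comp gX N hV fX h m)).trans ?_
  exact LimTop.unitSec_congr (fX ≫ gX) N _ hw m

lemma cornerR_unitSec {U : T.Opens} {V : Y.Opens} {W : Z.Opens} (hV : V ≤ gY ⁻¹ᵁ U)
    (h : W ≤ fY ⁻¹ᵁ V) (h' : W ≤ (fY ≫ gY) ⁻¹ᵁ U) (m : Γ(N, U)) :
    cornerR N h (unitSec gY N hV m) = unitSec (fY ≫ gY) N h' m :=
  LimTop.unitSec_comp gY N hV fY h m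

lemma res_cornerL {V : X.Opens} {W W' : Z.Opens} (h : W ≤ fX ⁻¹ᵁ V) (h' : W' ≤ W)
    (s : Γ((Scheme.Modules.pullback gX).obj N, V)) :
    res _ h' (cornerL hw N h s) = cornerL hw N (h'.trans h) s := by
  rw [cornerL, cornerL, ← QCoh.app_res, LimTop.res_unitSec]

lemma res_cornerR {V : Y.Opens} {W W' : Z.Opens} (h : W ≤ fY ⁻¹ᵁ V) (h' : W' ≤ W)
    (t : Γ((Scheme.Modules.pullback gY).obj N, V)) :
    res _ h' (cornerR N h t) = cornerR N (h'.trans h) t := by
  rw [cornerR, cornerR, ← QCoh.app_res, LimTop.res_unitSec]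

lemma cornerL_res {V V' : X.Opens} {W : Z.Opens} (hV : V' ≤ V) (h : W ≤ fX ⁻¹ᵁ V')
    (s : Γ((Scheme.Modules.pullback gX).obj N, V)) :
    cornerL hw N h (res _ hV s) = cornerL hw N (h.trans (fX.preimage_mono hV)) s := by
  rw [cornerL, cornerL, LimTop.unitSec_res]

lemma cornerR_res {V V' : Y.Opens} {W : Z.Opens} (hV : V' ≤ V) (h : W ≤ fY ⁻¹ᵁ V')
    (t : Γ((Scheme.Modules.pullback gY).obj N, V)) :
    cornerR N h (res _ hV t) = cornerR N (h.trans (fY.preimage_mono hV)) t := by
  rw [cornerR, cornerR, LimTop.unitSec_res]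

variable (hpo : IsPushout (toSh.map fX) (toSh.map fY) (toSh.map gX) (toSh.map gY))
  (hN : ∀ x : T, ∃ (U : T.Opens) (n : ℕ) (e : Fin n → Γ(N, U)), x ∈ U ∧ LFFrame.IsFrame N U e)

/-- The combination of a frame pulled back. -/
lemma comb_pull {S : Scheme.{u}} (g : S ⟶ T) {U : T.Opens} {n : ℕ} {e : Fin n → Γ(N, U)}
    {W : S.Opens} (h : W ≤ g ⁻¹ᵁ U) (b : Fin n → Γ(S, W)) :
    LFFrame.comb ((Scheme.Modules.pullback g).obj N) (fun i => LFFrame.unitSec g N U (e i)) h b =
      ∑ i, b i • unitSec g N h (e i) :=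
  rfl

lemma unitSec_comb {S : Scheme.{u}} (g : S ⟶ T) {U V : T.Opens} {n : ℕ} {e : Fin n → Γ(N, U)}
    (hV : V ≤ U) {W : S.Opens} (h : W ≤ g ⁻¹ᵁ V) (x : Fin n → Γ(T, V)) :
    unitSec g N h (LFFrame.comb N e hV x) =
      LFFrame.comb ((Scheme.Modules.pullback g).obj N) (fun i => LFFrame.unitSec g N U (e i))
        (h.trans (g.preimage_mono hV)) (fun i => g.appLE V W h (x i)) := by
  rw [comb_pull, LFFrame.comb, map_sum]
  refine Finset.sum_congr rfl fun i _ => ?_
  refine (LimTop.unitSec_smul g N h _ _).trans (congrArg (g.appLE V W h (x i) • ·) ?_)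
  exact LimTop.unitSec_res g N hV h (e i)

include hpo in
omit hN in
lemma frame_injective {U V : T.Opens} {n : ℕ} {e : Fin n → Γ(N, U)}
    (he : LFFrame.IsFrame N U e) (hV : V ≤ U) (m m' : Γ(N, V))
    (h1 : unitSec gX N (le_refl (gX ⁻¹ᵁ V)) m = unitSec gX N le_rfl m')
    (h2 : unitSec gY N (le_refl (gY ⁻¹ᵁ V)) m = unitSec gY N le_rfl m') : m = m' := by
  obtain ⟨x, rfl⟩ := (he V hV).2 m
  obtain ⟨x', rfl⟩ := (he V hV).2 m'
  rw [unitSec_comb, unitSec_comb] at h1 h2
  have e1 := (he.pullback gX _ _).1 h1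
  have e2 := (he.pullback gY _ _).1 h2
  refine congrArg _ (funext fun i => sections_injective hpo V _ _ ?_ ?_)
  · have := congrFun e1 i
    rwa [Scheme.Hom.appLE_eq_app] at this
  · have := congrFun e2 i
    rwa [Scheme.Hom.appLE_eq_app] at this

include hpo in
omit hN in
lemma frame_exists {U V : T.Opens} {n : ℕ} {e : Fin n → Γ(N, U)}
    (he : LFFrame.IsFrame N U e) (hV : V ≤ U)
    (s : Γ((Scheme.Modules.pullback gX).obj N, gX ⁻¹ᵁ V))
    (t : Γ((Scheme.Modules.pullback gY).obj N, gY ⁻¹ᵁ V))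
    (hst : cornerL hw N (le_refl (fX ⁻¹ᵁ gX ⁻¹ᵁ V)) s = cornerR N (preimage_eq hpo V).le t) :
    ∃ m : Γ(N, V), unitSec gX N le_rfl m = s ∧ unitSec gY N le_rfl m = t := by
  obtain ⟨b, rfl⟩ := (he.pullback gX (gX ⁻¹ᵁ V) (gX.preimage_mono hV)).2 s
  obtain ⟨c, rfl⟩ := (he.pullback gY (gY ⁻¹ᵁ V) (gY.preimage_mono hV)).2 t
  let W := fX ⁻¹ᵁ gX ⁻¹ᵁ V
  have hW : W ≤ (fY ≫ gY) ⁻¹ᵁ U := (preimage_eq hpo V).le.trans
    (fY.preimage_mono (gY.preimage_mono hV))
  have eL : cornerL hw N (le_refl W)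
      (LFFrame.comb _ (fun i => LFFrame.unitSec gX N U (e i)) (gX.preimage_mono hV) b) =
      LFFrame.comb ((Scheme.Modules.pullback (fY ≫ gY)).obj N)
        (fun i => LFFrame.unitSec (fY ≫ gY) N U (e i)) hW
        (fun i => fX.appLE (gX ⁻¹ᵁ V) W le_rfl (b i)) := by
    rw [comb_pull, comb_pull, cornerL, map_sum, map_sum]
    refine Finset.sum_congr rfl fun i _ => ?_
    rw [LimTop.unitSec_smul, Scheme.Modules.Hom.app_smul]
    exact congrArg (fX.appLE (gX ⁻¹ᵁ V) W le_rfl (b i) • ·) (cornerL_unitSec hw N _ _ hW (e i))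
  have eR : cornerR N (preimage_eq hpo V).le
      (LFFrame.comb _ (fun i => LFFrame.unitSec gY N U (e i)) (gY.preimage_mono hV) c) =
      LFFrame.comb ((Scheme.Modules.pullback (fY ≫ gY)).obj N)
        (fun i => LFFrame.unitSec (fY ≫ gY) N U (e i)) hW
        (fun i => fY.appLE (gY ⁻¹ᵁ V) W (preimage_eq hpo V).le (c i)) := by
    rw [comb_pull, comb_pull, cornerR, map_sum, map_sum]
    refine Finset.sum_congr rfl fun i _ => ?_
    rw [LimTop.unitSec_smul, Scheme.Modules.Hom.app_smul]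
    exact congrArg (fY.appLE (gY ⁻¹ᵁ V) W (preimage_eq hpo V).le (c i) • ·)
      (cornerR_unitSec N _ _ hW (e i))
  have e1 := (he.pullback (fY ≫ gY) W hW).1 ((eL.symm.trans hst).trans eR)
  choose x hx hx' using fun i => sections_exists hpo V (b i) (c i) (congrFun e1 i)
  refine ⟨LFFrame.comb N e hV x, ?_, ?_⟩
  · rw [unitSec_comb]
    refine congrArg _ (funext fun i => ?_)
    rw [Scheme.Hom.appLE_eq_app]
    exact hx i
  · rw [unitSec_comb]
    refine congrArg _ (funext fun i => ?_)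
    rw [Scheme.Hom.appLE_eq_app]
    exact hx' i

include hpo hN in
/-- A section of a locally free module is determined by the two pullbacks. -/
theorem sections_ext {U : T.Opens} (m m' : Γ(N, U))
    (h1 : unitSec gX N (le_refl (gX ⁻¹ᵁ U)) m = unitSec gX N le_rfl m')
    (h2 : unitSec gY N (le_refl (gY ⁻¹ᵁ U)) m = unitSec gY N le_rfl m') : m = m' := by
  choose U₀ n e hx he using hN
  refine QCoh.eq_of_locally_eq N (U := fun x : U => U ⊓ U₀ x.1) (fun _ => inf_le_left)
    (fun x hxU => Opens.mem_iSup.2 ⟨⟨x, hxU⟩, hxU, hx x⟩) m m' fun x => ?_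
  refine frame_injective N hpo (he x.1) inf_le_right _ _ ?_ ?_
  · have := congrArg (res _ (gX.preimage_mono (inf_le_left : U ⊓ U₀ x.1 ≤ U))) h1
    rw [LimTop.res_unitSec, LimTop.res_unitSec] at this
    rw [LimTop.unitSec_res, LimTop.unitSec_res]
    exact this
  · have := congrArg (res _ (gY.preimage_mono (inf_le_left : U ⊓ U₀ x.1 ≤ U))) h2
    rw [LimTop.res_unitSec, LimTop.res_unitSec] at this
    rw [LimTop.unitSec_res, LimTop.unitSec_res]
    exact this

include hpo hN in
/-- Compatible sections of the two pullbacks come from a section. -/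
theorem sections_glue {U : T.Opens}
    (s : Γ((Scheme.Modules.pullback gX).obj N, gX ⁻¹ᵁ U))
    (t : Γ((Scheme.Modules.pullback gY).obj N, gY ⁻¹ᵁ U))
    (hst : cornerL hw N (le_refl (fX ⁻¹ᵁ gX ⁻¹ᵁ U)) s = cornerR N (preimage_eq hpo U).le t) :
    ∃ m : Γ(N, U), unitSec gX N le_rfl m = s ∧ unitSec gY N le_rfl m = t := by
  choose U₀ n e hx he using hN
  let V : U → T.Opens := fun x => U ⊓ U₀ x.1
  have hV : ∀ x, V x ≤ U := fun _ => inf_le_left
  have hcov : U ≤ ⨆ x, V x := fun x hxU => Opens.mem_iSup.2 ⟨⟨x, hxU⟩, hxU, hx x⟩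
  have hloc : ∀ x, ∃ m : Γ(N, V x),
      unitSec gX N le_rfl m = res _ (gX.preimage_mono (hV x)) s ∧
      unitSec gY N le_rfl m = res _ (gY.preimage_mono (hV x)) t := fun x => by
    refine frame_exists hw N hpo (he x.1) inf_le_right _ _ ?_
    rw [cornerL_res, cornerR_res]
    have := congrArg (res _ (fX.preimage_mono (gX.preimage_mono (hV x)))) hst
    rwa [res_cornerL, res_cornerR] at this
  choose mm hmX hmY using hloc
  have hN' : ∀ x : T, ∃ (U : T.Opens) (n : ℕ) (e : Fin n → Γ(N, U)),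
      x ∈ U ∧ LFFrame.IsFrame N U e := fun x => ⟨U₀ x, n x, e x, hx x, he x⟩
  have hov : ∀ {S : Scheme.{u}} (g : S ⟶ T) (σ : Γ((Scheme.Modules.pullback g).obj N, g ⁻¹ᵁ U))
      (_ : ∀ x, unitSec g N le_rfl (mm x) = res _ (g.preimage_mono (hV x)) σ) (x : U)
      (O : T.Opens) (hO : O ≤ V x), unitSec g N (le_refl (g ⁻¹ᵁ O)) (res N hO (mm x)) =
        res _ (g.preimage_mono (hO.trans (hV x))) σ := fun {S} g σ hσ x O hO => by
    have := congrArg (res _ (g.preimage_mono hO)) (hσ x)
    rw [LimTop.res_unitSec, QCoh.res_res] at this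
    rw [LimTop.unitSec_res]
    exact this
  obtain ⟨m, hm⟩ := QCoh.exists_glue N hV hcov mm fun x y =>
    sections_ext N hpo hN' _ _ ((hov gX s hmX x _ _).trans (hov gX s hmX y _ _).symm)
      ((hov gY t hmY x _ _).trans (hov gY t hmY y _ _).symm)
  have hc : ∀ {S : Scheme.{u}} (g : S ⟶ T), g ⁻¹ᵁ U ≤ ⨆ x, g ⁻¹ᵁ V x := fun {S} g p hp => by
    obtain ⟨x, hxp⟩ := Opens.mem_iSup.1 (hcov (show g p ∈ U from hp))
    exact Opens.mem_iSup.2 ⟨x, hxp⟩
  have fin : ∀ {S : Scheme.{u}} (g : S ⟶ T) (σ : Γ((Scheme.Modules.pullback g).obj N, g ⁻¹ᵁ U))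
      (_ : ∀ x, unitSec g N le_rfl (mm x) = res _ (g.preimage_mono (hV x)) σ),
      unitSec g N le_rfl m = σ := fun {S} g σ hσ =>
    QCoh.eq_of_locally_eq _ (fun x => g.preimage_mono (hV x)) (hc g) _ _ fun x => by
      rw [LimTop.res_unitSec, ← hσ x, ← hm x, LimTop.unitSec_res]
  exact ⟨m, fin gX s hmX, fin gY t hmY⟩

variable (M : T.Modules)

include hpo hN in
/-- The pullback functors to the two legs are jointly faithful. -/
theorem hom_eq (φ ψ : M ⟶ N)
    (h1 : (Scheme.Modules.pullback gX).map φ = (Scheme.Modules.pullback gX).map ψ)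
    (h2 : (Scheme.Modules.pullback gY).map φ = (Scheme.Modules.pullback gY).map ψ) : φ = ψ := by
  ext U m
  refine sections_ext N hpo hN _ _ ?_ ?_
  · rw [← LimTop.unitSec_map, ← LimTop.unitSec_map, h1]
  · rw [← LimTop.unitSec_map, ← LimTop.unitSec_map, h2]

omit hpo hN in
/-- Injectivity of the comparison with the corner. -/
lemma toCornerR_injective (P : T.Modules) (W : Z.Opens) :
    Function.Injective ((toCornerR (fY := fY) (gY := gY) P).app W) :=
  (ConcreteCategory.bijective_of_isIso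
    ((((Scheme.Modules.pullbackComp fY gY).app P).hom).app W)).1

variable {M}
  (a : (Scheme.Modules.pullback gX).obj M ⟶ (Scheme.Modules.pullback gX).obj N)
  (b : (Scheme.Modules.pullback gY).obj M ⟶ (Scheme.Modules.pullback gY).obj N)

include hpo in
omit hN in
/-- A compatible pair sends a section to a compatible pair of sections. -/
theorem compat_of_hom
    (hab : (Scheme.Modules.pullback fX).map a ≫
        ((Scheme.Modules.pullbackComp fX gX).app N ≪≫ (Scheme.Modules.pullbackCongr hw).app N ≪≫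
          ((Scheme.Modules.pullbackComp fY gY).app N).symm).hom =
      ((Scheme.Modules.pullbackComp fX gX).app M ≪≫ (Scheme.Modules.pullbackCongr hw).app M ≪≫
          ((Scheme.Modules.pullbackComp fY gY).app M).symm).hom ≫
        (Scheme.Modules.pullback fY).map b) (U : T.Opens) (m : Γ(M, U)) :
    cornerL hw N (le_refl (fX ⁻¹ᵁ gX ⁻¹ᵁ U)) (a.app _ (unitSec gX M le_rfl m)) =
      cornerR N (preimage_eq hpo U).le (b.app _ (unitSec gY M le_rfl m)) := by
  let W := fX ⁻¹ᵁ gX ⁻¹ᵁ U
  have hW : W ≤ fY ⁻¹ᵁ gY ⁻¹ᵁ U := (preimage_eq hpo U).le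
  let x := unitSec fX _ (le_refl W) (unitSec gX M (le_refl (gX ⁻¹ᵁ U)) m)
  let y := unitSec fY _ hW (unitSec gY M (le_refl (gY ⁻¹ᵁ U)) m)
  have hξ : (((Scheme.Modules.pullbackComp fY gY).inv.app M).app W)
      ((toCornerL hw M).app W x) = y := by
    refine toCornerR_injective (fY := fY) (gY := gY) M W ?_
    refine Eq.trans ?_ ((cornerL_unitSec hw M le_rfl le_rfl hW m).trans
      (cornerR_unitSec M le_rfl hW hW m).symm)
    show ((Scheme.Modules.pullbackComp fY gY).hom.app M).app W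
      (((Scheme.Modules.pullbackComp fY gY).inv.app M).app W _) = _
    rw [← ConcreteCategory.comp_apply, ← Scheme.Modules.Hom.comp_app, ← NatTrans.comp_app,
      Iso.inv_hom_id]
    rfl
  have h := congrArg (fun k => k.app W x) hab
  have key : ((Scheme.Modules.pullbackComp fY gY).inv.app N).app W
      (cornerL hw N (le_refl W) (a.app _ (unitSec gX M le_rfl m))) =
      unitSec fY _ hW (b.app _ (unitSec gY M le_rfl m)) := by
    rw [cornerL, ← LimTop.unitSec_map, ← LimTop.unitSec_map]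
    refine Eq.trans h ?_
    exact congrArg (((Scheme.Modules.pullback fY).map b).app W) hξ
  refine Eq.trans ?_ (congrArg ((toCornerR N).app W) key)
  show _ = ((Scheme.Modules.pullbackComp fY gY).hom.app N).app W _
  rw [← ConcreteCategory.comp_apply, ← Scheme.Modules.Hom.comp_app, ← NatTrans.comp_app,
    Iso.inv_hom_id]
  rfl

include hpo hN in
/-- A compatible pair of morphisms comes from a morphism. -/
theorem exists_hom
    (hab : (Scheme.Modules.pullback fX).map a ≫
        ((Scheme.Modules.pullbackComp fX gX).app N ≪≫ (Scheme.Modules.pullbackCongr hw).app N ≪≫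
          ((Scheme.Modules.pullbackComp fY gY).app N).symm).hom =
      ((Scheme.Modules.pullbackComp fX gX).app M ≪≫ (Scheme.Modules.pullbackCongr hw).app M ≪≫
          ((Scheme.Modules.pullbackComp fY gY).app M).symm).hom ≫
        (Scheme.Modules.pullback fY).map b) :
    ∃ φ : M ⟶ N, (Scheme.Modules.pullback gX).map φ = a ∧
      (Scheme.Modules.pullback gY).map φ = b := by
  choose f hfX hfY using fun (U : T.Opens) (m : Γ(M, U)) =>
    sections_glue hw N hpo hN _ _ (compat_of_hom hw N hpo a b hab U m)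
  have hadd : ∀ (U : T.Opens) (m m' : Γ(M, U)), f U (m + m') = f U m + f U m' := fun U m m' =>
    sections_ext N hpo hN _ _ (by simp only [hfX, map_add]) (by simp only [hfY, map_add])
  have hres : ∀ {U V : T.Opens} (h : V ≤ U) (m : Γ(M, U)),
      f V (res M h m) = res N h (f U m) := fun {U V} h m => by
    refine sections_ext N hpo hN _ _ ?_ ?_
    · rw [hfX, LimTop.unitSec_res, LimTop.unitSec_res,
        ← LimTop.res_unitSec gX M le_rfl (gX.preimage_mono h), QCoh.app_res, ← hfX,
        LimTop.res_unitSec]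
    · rw [hfY, LimTop.unitSec_res, LimTop.unitSec_res,
        ← LimTop.res_unitSec gY M le_rfl (gY.preimage_mono h), QCoh.app_res, ← hfY,
        LimTop.res_unitSec]
  have hsmul : ∀ (U : T.Opens) (r : Γ(T, U)) (m : Γ(M, U)), f U (r • m) = r • f U m :=
    fun U r m => by
      refine sections_ext N hpo hN _ _ ?_ ?_
      · rw [hfX, LimTop.unitSec_smul, Scheme.Modules.Hom.app_smul, ← hfX, LimTop.unitSec_smul]
      · rw [hfY, LimTop.unitSec_smul, Scheme.Modules.Hom.app_smul, ← hfY, LimTop.unitSec_smul]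
  let p : M.presheaf ⟶ N.presheaf :=
    { app := fun U => AddCommGrpCat.ofHom (AddMonoidHom.mk' (f U.unop) (hadd U.unop))
      naturality := fun U V i => by
        ext m
        exact hres i.unop.le m }
  let φ : M ⟶ N := ⟨PresheafOfModules.homMk p (fun U r m => hsmul U.unop r m)⟩
  refine ⟨φ, ?_, ?_⟩
  · refine ((Scheme.Modules.pullbackPushforwardAdjunction gX).homEquiv _ _).injective ?_
    rw [Adjunction.homEquiv_unit, Adjunction.homEquiv_unit]
    ext U m
    have h := hfX U m
    rw [LimTop.unitSec_apply, LimTop.unitSec_apply, QCoh.res_self, QCoh.res_self] at h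
    refine Eq.trans ?_ h
    exact congr(Scheme.Modules.Hom.app
      $(((Scheme.Modules.pullbackPushforwardAdjunction gX).unit.naturality φ).symm) U m)
  · refine ((Scheme.Modules.pullbackPushforwardAdjunction gY).homEquiv _ _).injective ?_
    rw [Adjunction.homEquiv_unit, Adjunction.homEquiv_unit]
    ext U m
    have h := hfY U m
    rw [LimTop.unitSec_apply, LimTop.unitSec_apply, QCoh.res_self, QCoh.res_self] at h
    refine Eq.trans ?_ h
    exact congr(Scheme.Modules.Hom.app
      $(((Scheme.Modules.pullbackPushforwardAdjunction gY).unit.naturality φ).symm) U m)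

end Groth.Agent.PinchLib.FullFaith
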