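import Groth.Agent.PinchLib.SchemePushout
import Groth.Agent.LimTop.PullSec
import Groth.Agent.LFFrame.Basic
import Groth.Agent.FinCov71.Rank
import Groth.Agent.EulerSeq.KerFrame
import Groth.Agent.Desc44.ProjBundle.Quot
import Mathlib.CategoryTheory.Limits.Types.Pullbacks

/-!
# Glueing locally free modules along a pinching

For a commutative square `ι ≫ π = q ≫ ι'`, modules `LX`, `LZ'` and `σ : ι^* LX ⟶ q^* LZ'`, the
module `glued` is the fibre product of `π_* LX` and `ι'_* LZ'` over the pushforward of `q^* LZ'`.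
-/

set_option autoImplicit false
set_option backward.isDefEq.respectTransparency false

universe u

open CategoryTheory Limits AlgebraicGeometry TopologicalSpace Opposite

noncomputable section

namespace Groth.Agent.PinchLib.Glue

open Groth.Agent.QCoh (res)
open Groth.Agent.LimTop (unitSec)

variable {X Z Z' X' : Scheme.{u}} {ι : Z ⟶ X} {q : Z ⟶ Z'} {π : X ⟶ X'} {ι' : Z' ⟶ X'}
  (hw : ι ≫ π = q ≫ ι') {LX : X.Modules} {LZ' : Z'.Modules}
  (σ : (Scheme.Modules.pullback ι).obj LX ⟶ (Scheme.Modules.pullback q).obj LZ')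

variable (ι π q LZ') in
/-- The pushforward of the corner. -/
abbrev corner : X'.Modules :=
  (Scheme.Modules.pushforward (ι ≫ π)).obj ((Scheme.Modules.pullback q).obj LZ')

/-- The leg through `X`. -/
def legA : (Scheme.Modules.pushforward π).obj LX ⟶ corner ι q π LZ' :=
  (Scheme.Modules.pushforward π).map ((Scheme.Modules.pullbackPushforwardAdjunction ι).unit.app LX ≫
    (Scheme.Modules.pushforward ι).map σ) ≫ (Scheme.Modules.pushforwardComp ι π).hom.app _

variable (LZ') in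
/-- The leg through `Z'`. -/
def legB : (Scheme.Modules.pushforward ι').obj LZ' ⟶ corner ι q π LZ' :=
  (Scheme.Modules.pushforward ι').map ((Scheme.Modules.pullbackPushforwardAdjunction q).unit.app LZ') ≫
    (Scheme.Modules.pushforwardComp q ι').hom.app _ ≫ (Scheme.Modules.pushforwardCongr hw).inv.app _

include hw in
lemma preimage_le (V : X'.Opens) : ι ⁻¹ᵁ π ⁻¹ᵁ V ≤ q ⁻¹ᵁ ι' ⁻¹ᵁ V :=
  (congrArg (fun k : Z ⟶ X' => k ⁻¹ᵁ V) hw).le

lemma legA_app (V : X'.Opens) (s : Γ(LX, π ⁻¹ᵁ V)) :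
    (legA (π := π) σ).app V s = σ.app (ι ⁻¹ᵁ π ⁻¹ᵁ V) (unitSec ι LX le_rfl s) := by
  rw [LimTop.unitSec_apply, QCoh.res_self]
  rfl

lemma legB_app (V : X'.Opens) (t : Γ(LZ', ι' ⁻¹ᵁ V)) :
    (legB hw LZ').app V t = unitSec q LZ' (preimage_le hw V) t := by
  rw [LimTop.unitSec_apply]
  rfl

variable (π) in
/-- The glued module. -/
def glued : X'.Modules := pullback (legA (π := π) σ) (legB hw LZ')

/-- The projection to `X`. -/
def pr₁ (V : X'.Opens) (m : Γ(glued π hw σ, V)) : Γ(LX, π ⁻¹ᵁ V) :=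
  (pullback.fst (legA (π := π) σ) (legB hw LZ')).app V m

/-- The projection to `Z'`. -/
def pr₂ (V : X'.Opens) (m : Γ(glued π hw σ, V)) : Γ(LZ', ι' ⁻¹ᵁ V) :=
  (pullback.snd (legA (π := π) σ) (legB hw LZ')).app V m

lemma pr_compat (V : X'.Opens) (m : Γ(glued π hw σ, V)) :
    σ.app (ι ⁻¹ᵁ π ⁻¹ᵁ V) (unitSec ι LX le_rfl (pr₁ hw σ V m)) =
      unitSec q LZ' (preimage_le hw V) (pr₂ hw σ V m) := by
  rw [← legA_app, ← legB_app hw]
  exact congr(Scheme.Modules.Hom.app $(pullback.condition (f := legA (π := π) σ) (g := legB hw LZ')) V m)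

/-- Sections as a functor. -/
abbrev sec (V : X'.Opens) : X'.Modules ⥤ Type u :=
  Scheme.Modules.toPresheaf X' ⋙ (evaluation _ AddCommGrpCat.{u}).obj (op V) ⋙ forget AddCommGrpCat.{u}

lemma isPullback_sec (V : X'.Opens) :
    IsPullback ((sec V).map (pullback.fst (legA (π := π) σ) (legB hw LZ')))
      ((sec V).map (pullback.snd (legA (π := π) σ) (legB hw LZ')))
      ((sec V).map (legA (π := π) σ)) ((sec V).map (legB hw LZ')) := by
  haveI : PreservesFiniteLimits ((evaluation X'.Opensᵒᵖ AddCommGrpCat.{u}).obj (op V)) :=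
    ⟨fun _ _ _ => evaluation_preservesLimitsOfShape _⟩
  haveI : PreservesFiniteLimits (sec V) := comp_preservesFiniteLimits (Scheme.Modules.toPresheaf X') _
  exact (IsPullback.of_hasPullback (legA (π := π) σ) (legB hw LZ')).map (sec V)

lemma pr_ext (V : X'.Opens) {m m' : Γ(glued π hw σ, V)} (h₁ : pr₁ hw σ V m = pr₁ hw σ V m')
    (h₂ : pr₂ hw σ V m = pr₂ hw σ V m') : m = m' :=
  Types.ext_of_isPullback (isPullback_sec hw σ V) h₁ h₂

lemma pr_exists (V : X'.Opens) (s : Γ(LX, π ⁻¹ᵁ V)) (t : Γ(LZ', ι' ⁻¹ᵁ V))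
    (h : σ.app (ι ⁻¹ᵁ π ⁻¹ᵁ V) (unitSec ι LX le_rfl s) = unitSec q LZ' (preimage_le hw V) t) :
    ∃ m : Γ(glued π hw σ, V), pr₁ hw σ V m = s ∧ pr₂ hw σ V m = t :=
  Types.exists_of_isPullback (isPullback_sec hw σ V) s t
    ((legA_app σ V s).trans (h.trans (legB_app hw V t).symm))

/-- The comparison on `X`. -/
def toX : (Scheme.Modules.pullback π).obj (glued π hw σ) ⟶ LX :=
  ((Scheme.Modules.pullbackPushforwardAdjunction π).homEquiv _ _).symm
    (pullback.fst (legA (π := π) σ) (legB hw LZ'))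

/-- The comparison on `Z'`. -/
def toZ' : (Scheme.Modules.pullback ι').obj (glued π hw σ) ⟶ LZ' :=
  ((Scheme.Modules.pullbackPushforwardAdjunction ι').homEquiv _ _).symm
    (pullback.snd (legA (π := π) σ) (legB hw LZ'))

lemma app_unitSec_of_homEquiv {S T : Scheme.{u}} (f : S ⟶ T) {M : T.Modules} {L : S.Modules}
    (g : M ⟶ (Scheme.Modules.pushforward f).obj L) (V : T.Opens) (m : Γ(M, V)) {W : S.Opens}
    (h : W ≤ f ⁻¹ᵁ V) :
    (((Scheme.Modules.pullbackPushforwardAdjunction f).homEquiv _ _).symm g).app W (unitSec f M h m) =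
      res L h (g.app V m) := by
  rw [LimTop.unitSec_apply, QCoh.app_res]
  refine congrArg (res L h) ?_
  have e := ((Scheme.Modules.pullbackPushforwardAdjunction f).homEquiv M L).apply_symm_apply g
  rw [Adjunction.homEquiv_unit] at e
  exact congr(Scheme.Modules.Hom.app $e V m)

lemma toX_unitSec (V : X'.Opens) (m : Γ(glued π hw σ, V)) {W : X.Opens} (h : W ≤ π ⁻¹ᵁ V) :
    (toX hw σ).app W (unitSec π _ h m) = res LX h (pr₁ hw σ V m) :=
  app_unitSec_of_homEquiv π _ V m h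

lemma toZ'_unitSec (V : X'.Opens) (m : Γ(glued π hw σ, V)) {W : Z'.Opens} (h : W ≤ ι' ⁻¹ᵁ V) :
    (toZ' hw σ).app W (unitSec ι' _ h m) = res LZ' h (pr₂ hw σ V m) :=
  app_unitSec_of_homEquiv ι' _ V m h

/-- The glueing square commutes. -/
theorem comparison_comm :
    (Scheme.Modules.pullbackComp ι π).hom.app (glued π hw σ) ≫
        (Scheme.Modules.pullbackCongr hw).hom.app _ ≫ (Scheme.Modules.pullbackComp q ι').inv.app _ ≫
          (Scheme.Modules.pullback q).map (toZ' hw σ) =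
      (Scheme.Modules.pullback ι).map (toX hw σ) ≫ σ := by
  refine ((Scheme.Modules.pullbackPushforwardAdjunction ι).homEquiv _ _).injective ?_
  refine ((Scheme.Modules.pullbackPushforwardAdjunction π).homEquiv _ _).injective ?_
  ext V m
  let M := glued π hw σ
  let W : Z.Opens := ι ⁻¹ᵁ π ⁻¹ᵁ V
  have hW : W ≤ q ⁻¹ᵁ ι' ⁻¹ᵁ V := preimage_le hw V
  let x : Γ((Scheme.Modules.pullback ι).obj ((Scheme.Modules.pullback π).obj M), W) :=
    unitSec ι _ (le_refl W) (unitSec π M (le_refl (π ⁻¹ᵁ V)) m)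
  let y : Γ((Scheme.Modules.pullback q).obj ((Scheme.Modules.pullback ι').obj M), W) :=
    unitSec q _ hW (unitSec ι' M (le_refl (ι' ⁻¹ᵁ V)) m)
  have e1 : ((Scheme.Modules.pullbackCongr hw).hom.app M).app W
      (((Scheme.Modules.pullbackComp ι π).hom.app M).app W x) =
      ((Scheme.Modules.pullbackComp q ι').hom.app M).app W y := by
    rw [LimTop.unitSec_comp π M (le_refl (π ⁻¹ᵁ V)) ι (le_refl W) m,
      LimTop.unitSec_comp ι' M (le_refl (ι' ⁻¹ᵁ V)) q hW m]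
    exact LimTop.unitSec_congr (ι ≫ π) M _ hw m
  have e2 : ((Scheme.Modules.pullbackComp q ι').inv.app M).app W
      (((Scheme.Modules.pullbackComp q ι').hom.app M).app W y) = y := by
    rw [← ConcreteCategory.comp_apply, ← Scheme.Modules.Hom.comp_app, ← NatTrans.comp_app,
      Iso.hom_inv_id]
    rfl
  have key : ((Scheme.Modules.pullback q).map (toZ' hw σ)).app W
      (((Scheme.Modules.pullbackComp q ι').inv.app M).app W
        (((Scheme.Modules.pullbackCongr hw).hom.app M).app W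
          (((Scheme.Modules.pullbackComp ι π).hom.app M).app W x))) =
      σ.app W (((Scheme.Modules.pullback ι).map (toX hw σ)).app W x) := by
    rw [e1, e2, LimTop.unitSec_map, LimTop.unitSec_map, toX_unitSec, toZ'_unitSec, QCoh.res_self,
      QCoh.res_self]
    exact (pr_compat hw σ V m).symm
  have hx : x = ((Scheme.Modules.pullbackPushforwardAdjunction ι).unit.app _).app (π ⁻¹ᵁ V)
      (((Scheme.Modules.pullbackPushforwardAdjunction π).unit.app M).app V m) := by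
    simp only [x, LimTop.unitSec_apply, QCoh.res_self]
    exact QCoh.res_self _ _ _
  rw [hx] at key
  simp only [Adjunction.homEquiv_unit]
  exact key

/-! ### Frames of the glued module -/

/-- Compatible frames over an open of the pinching. -/
structure Chart (n : ℕ) (V : X'.Opens) where
  u : Fin n → Γ(LX, π ⁻¹ᵁ V)
  v : Fin n → Γ(LZ', ι' ⁻¹ᵁ V)
  hu : LFFrame.IsFrame LX (π ⁻¹ᵁ V) u
  hv : LFFrame.IsFrame LZ' (ι' ⁻¹ᵁ V) v
  compat : ∀ i, σ.app (ι ⁻¹ᵁ π ⁻¹ᵁ V) (unitSec ι LX le_rfl (u i)) = unitSec q LZ' (preimage_le hw V) (v i)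

variable {hw} {σ} {n : ℕ} {V : X'.Opens} (c : Chart hw σ n V)

/-- The frame of the corner. -/
def Chart.w (i : Fin n) : Γ((Scheme.Modules.pullback q).obj LZ', ι ⁻¹ᵁ π ⁻¹ᵁ V) :=
  unitSec q LZ' (preimage_le hw V) (c.v i)

lemma Chart.isFrame_w : LFFrame.IsFrame _ (ι ⁻¹ᵁ π ⁻¹ᵁ V) c.w :=
  EulerSeq.isFrame_res (c.hv.pullback q) (preimage_le hw V)

lemma Chart.sigma_comb {W : X'.Opens} (hW : W ≤ V) (b : Fin n → Γ(X, π ⁻¹ᵁ W)) :
    σ.app (ι ⁻¹ᵁ π ⁻¹ᵁ W) (unitSec ι LX le_rfl (LFFrame.comb LX c.u (π.preimage_mono hW) b)) =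
      LFFrame.comb _ c.w (ι.preimage_mono (π.preimage_mono hW))
        (fun i => ι.appLE (π ⁻¹ᵁ W) (ι ⁻¹ᵁ π ⁻¹ᵁ W) le_rfl (b i)) := by
  simp only [LFFrame.comb, map_sum]
  refine Finset.sum_congr rfl fun i _ => ?_
  rw [LimTop.unitSec_smul, Scheme.Modules.Hom.app_smul]
  refine congrArg (ι.appLE (π ⁻¹ᵁ W) (ι ⁻¹ᵁ π ⁻¹ᵁ W) le_rfl (b i) • ·) ?_
  show σ.app _ (unitSec ι LX le_rfl (res LX (π.preimage_mono hW) (c.u i))) = res _ _ (c.w i)
  rw [LimTop.unitSec_res, ← LimTop.res_unitSec ι LX le_rfl (ι.preimage_mono (π.preimage_mono hW)),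
    QCoh.app_res, c.compat]
  rfl

lemma Chart.unitSec_comb {W : X'.Opens} (hW : W ≤ V) (b : Fin n → Γ(Z', ι' ⁻¹ᵁ W)) :
    unitSec q LZ' (preimage_le hw W) (LFFrame.comb LZ' c.v (ι'.preimage_mono hW) b) =
      LFFrame.comb _ c.w (ι.preimage_mono (π.preimage_mono hW))
        (fun i => q.appLE (ι' ⁻¹ᵁ W) (ι ⁻¹ᵁ π ⁻¹ᵁ W) (preimage_le hw W) (b i)) := by
  simp only [LFFrame.comb, map_sum]
  refine Finset.sum_congr rfl fun i _ => ?_
  rw [LimTop.unitSec_smul]
  refine congrArg (q.appLE (ι' ⁻¹ᵁ W) (ι ⁻¹ᵁ π ⁻¹ᵁ W) (preimage_le hw W) (b i) • ·) ?_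
  show unitSec q LZ' _ (res LZ' (ι'.preimage_mono hW) (c.v i)) = res _ _ (c.w i)
  rw [LimTop.unitSec_res, Chart.w, LimTop.res_unitSec]

lemma pr₁_comb (e : Fin n → Γ(glued π hw σ, V)) {W : X'.Opens} (hW : W ≤ V) (r : Fin n → Γ(X', W)) :
    pr₁ hw σ W (LFFrame.comb _ e hW r) =
      LFFrame.comb LX (fun i => pr₁ hw σ V (e i)) (π.preimage_mono hW) (fun i => π.app W (r i)) := by
  simp only [pr₁, LFFrame.comb, map_sum]
  refine Finset.sum_congr rfl fun i _ => ?_
  rw [Scheme.Modules.Hom.app_smul]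
  exact congrArg (fun z : Γ(LX, π ⁻¹ᵁ W) => π.app W (r i) • z) (QCoh.app_res (pullback.fst (legA (π := π) σ) (legB hw LZ')) hW (e i))

lemma pr₂_comb (e : Fin n → Γ(glued π hw σ, V)) {W : X'.Opens} (hW : W ≤ V) (r : Fin n → Γ(X', W)) :
    pr₂ hw σ W (LFFrame.comb _ e hW r) =
      LFFrame.comb LZ' (fun i => pr₂ hw σ V (e i)) (ι'.preimage_mono hW) (fun i => ι'.app W (r i)) := by
  simp only [pr₂, LFFrame.comb, map_sum]
  refine Finset.sum_congr rfl fun i _ => ?_
  rw [Scheme.Modules.Hom.app_smul]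
  exact congrArg (fun z : Γ(LZ', ι' ⁻¹ᵁ W) => ι'.app W (r i) • z) (QCoh.app_res (pullback.snd (legA (π := π) σ) (legB hw LZ')) hW (e i))

variable (hpo : IsPushout (toSh.map ι) (toSh.map q) (toSh.map π) (toSh.map ι'))

include hpo in
/-- A chart gives a frame of the glued module. -/
theorem Chart.exists_frame : ∃ e : Fin n → Γ(glued π hw σ, V), LFFrame.IsFrame (glued π hw σ) V e ∧
    (∀ i, pr₁ hw σ V (e i) = c.u i) ∧ ∀ i, pr₂ hw σ V (e i) = c.v i := by
  choose e h₁ h₂ using fun i => pr_exists hw σ V (c.u i) (c.v i) (c.compat i)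
  have f₁ : (fun i => pr₁ hw σ V (e i)) = c.u := funext h₁
  have f₂ : (fun i => pr₂ hw σ V (e i)) = c.v := funext h₂
  refine ⟨e, fun W hW => ⟨fun r r' h => funext fun i => ?_, fun m => ?_⟩, h₁, h₂⟩
  · have a := congrArg (pr₁ hw σ W) h
    have b := congrArg (pr₂ hw σ W) h
    rw [pr₁_comb, pr₁_comb, f₁] at a
    rw [pr₂_comb, pr₂_comb, f₂] at b
    exact sections_injective hpo W _ _ (congrFun ((c.hu _ _).1 a) i) (congrFun ((c.hv _ _).1 b) i)
  · obtain ⟨b, hb⟩ := (c.hu (π ⁻¹ᵁ W) (π.preimage_mono hW)).2 (pr₁ hw σ W m)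
    obtain ⟨d, hd⟩ := (c.hv (ι' ⁻¹ᵁ W) (ι'.preimage_mono hW)).2 (pr₂ hw σ W m)
    have h := pr_compat hw σ W m
    rw [← hb, ← hd, c.sigma_comb hW, c.unitSec_comb hW] at h
    choose r hr hr' using fun i => sections_exists hpo W (b i) (d i)
      (congrFun ((c.isFrame_w _ _).1 h) i)
    refine ⟨r, pr_ext hw σ W ?_ ?_⟩
    · rw [pr₁_comb, f₁, ← hb]
      exact congrArg _ (funext hr)
    · rw [pr₂_comb, f₂, ← hd]
      exact congrArg _ (funext hr')

variable (hcharts : ∀ x' : X', ∃ V : X'.Opens, x' ∈ V ∧ Nonempty (Chart hw σ n V))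

include hpo hcharts in
theorem isFinLocFreeOfRank : FlatMod.IsFinLocFreeOfRank n (glued π hw σ) :=
  FinCov71.isFinLocFreeOfRank_of_frames fun x' => by
    obtain ⟨V, hx, ⟨c⟩⟩ := hcharts x'
    obtain ⟨e, he, -, -⟩ := c.exists_frame hpo
    exact ⟨V, e, hx, he⟩

/-- A map out of a pullback sending a pulled back frame to a frame is bijective. -/
lemma bijective_of_frame {S T : Scheme.{u}} (f : S ⟶ T) {M : T.Modules} {L : S.Modules}
    (φ : (Scheme.Modules.pullback f).obj M ⟶ L) {V : T.Opens} {e : Fin n → Γ(M, V)}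
    (he : LFFrame.IsFrame M V e) {t : Fin n → Γ(L, f ⁻¹ᵁ V)} (ht : LFFrame.IsFrame L (f ⁻¹ᵁ V) t)
    (hφ : ∀ i, φ.app (f ⁻¹ᵁ V) (unitSec f M le_rfl (e i)) = t i) (W : S.Opens) (hW : W ≤ f ⁻¹ᵁ V) :
    Function.Bijective (φ.app W) := by
  refine (Function.Bijective.of_comp_iff _ ((he.pullback f) W hW)).1 ?_
  have : φ.app W ∘ LFFrame.comb _ (fun i => LFFrame.unitSec f M V (e i)) hW = LFFrame.comb L t hW := by
    funext a
    simp only [Function.comp_apply, LFFrame.comb, map_sum]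
    refine Finset.sum_congr rfl fun i _ => ?_
    rw [Scheme.Modules.Hom.app_smul, ← hφ i, LimTop.unitSec_apply, QCoh.res_self]
    exact congrArg (a i • ·) (QCoh.app_res φ hW _)
  rw [this]
  exact ht W hW

include hpo hcharts in
theorem isIso_toX : IsIso (toX (π := π) hw σ) := by
  refine LFFrame.isIso_of_locally_bijective _ fun x => ?_
  obtain ⟨V, hx, ⟨c⟩⟩ := hcharts (π x)
  obtain ⟨e, he, h₁, -⟩ := c.exists_frame hpo
  exact ⟨π ⁻¹ᵁ V, hx, bijective_of_frame π _ he c.hu fun i => by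
    rw [toX_unitSec, QCoh.res_self, h₁]⟩

include hpo hcharts in
theorem isIso_toZ' : IsIso (toZ' (ι' := ι') hw σ) := by
  refine LFFrame.isIso_of_locally_bijective _ fun z' => ?_
  obtain ⟨V, hx, ⟨c⟩⟩ := hcharts (ι' z')
  obtain ⟨e, he, -, h₂⟩ := c.exists_frame hpo
  exact ⟨ι' ⁻¹ᵁ V, hx, bijective_of_frame ι' _ he c.hv fun i => by
    rw [toZ'_unitSec, QCoh.res_self, h₂]⟩

end Groth.Agent.PinchLib.Glue
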