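import Mathlib.RingTheory.Flat.Basic
import Mathlib.RingTheory.Flat.Tensor
import Mathlib.Algebra.Module.Torsion.Basic
import Mathlib.RingTheory.Flat.Stability
import Mathlib.RingTheory.TensorProduct.Finite
import Mathlib.RingTheory.Finiteness.Cardinality
import Mathlib.RingTheory.TensorProduct.Quotient
import Mathlib.Algebra.Module.FinitePresentation
import Mathlib.LinearAlgebra.TensorProduct.RightExactness

/-!
# Modules over a pinched ring

`R` is a ring with an ideal `I` and an algebra `A` such that `I` maps bijectively onto an ideal of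
`A` (so `R = A ×_{A/IA} R/I`).  Vanishing, finiteness, flatness and finite presentation of a module
can be tested after base change to `A` and to `R/I`.
-/

set_option autoImplicit false

universe u

open TensorProduct

namespace Groth.Agent.PinchLib

/-- The hypotheses of a pinching. -/
structure IsPinched {R A : Type u} [CommRing R] [CommRing A] [Algebra R A] (I : Ideal R) :
    Prop where
  inj : ∀ i ∈ I, algebraMap R A i = 0 → i = 0
  image : ∀ a ∈ I.map (algebraMap R A), ∃ i ∈ I, algebraMap R A i = a

variable {R A : Type u} [CommRing R] [CommRing A] [Algebra R A] {I : Ideal R}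
  {M : Type u} [AddCommGroup M] [Module R M]

namespace IsPinched

/-- The inverse `J → I` of the structure map. -/
noncomputable def back (h : IsPinched (A := A) I) (a : I.map (algebraMap R A)) : R :=
  (h.image a.1 a.2).choose

variable (h : IsPinched (A := A) I)

lemma back_mem (a : I.map (algebraMap R A)) : h.back a ∈ I := (h.image a.1 a.2).choose_spec.1

lemma map_back (a : I.map (algebraMap R A)) : algebraMap R A (h.back a) = a.1 :=
  (h.image a.1 a.2).choose_spec.2

include h in
lemma eq_of_map {i j : R} (hi : i ∈ I) (hj : j ∈ I) (e : algebraMap R A i = algebraMap R A j) :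
    i = j :=
  sub_eq_zero.mp (h.inj _ (I.sub_mem hi hj) (by rw [map_sub, e, sub_self]))

/-- The inverse as a linear map. -/
noncomputable def backLin : (I.map (algebraMap R A) : Ideal A) →ₗ[R] R where
  toFun := h.back
  map_add' a b := h.eq_of_map (h.back_mem _) (I.add_mem (h.back_mem _) (h.back_mem _)) (by
    rw [map_add, map_back, map_back, map_back]
    rfl)
  map_smul' r a := h.eq_of_map (h.back_mem _) (I.mul_mem_left r (h.back_mem a)) (by
    rw [RingHom.id_apply, map_back, smul_eq_mul, map_mul, map_back]
    exact Algebra.smul_def r a.1)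

/-- Multiplication of `A` into `I` by an element of `I`. -/
noncomputable def phi (i : R) (hi : i ∈ I) : A →ₗ[R] R where
  toFun a := h.back ⟨a * algebraMap R A i, Ideal.mul_mem_left _ a (Ideal.mem_map_of_mem _ hi)⟩
  map_add' a b := h.eq_of_map (h.back_mem _) (I.add_mem (h.back_mem _) (h.back_mem _)) (by
    rw [map_add, map_back, map_back, map_back]
    exact add_mul a b _)
  map_smul' r a := h.eq_of_map (h.back_mem _) (I.mul_mem_left r (h.back_mem _)) (by
    rw [RingHom.id_apply, map_back, smul_eq_mul, map_mul, map_back]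
    show (r • a) * _ = _
    rw [Algebra.smul_def, mul_assoc])

lemma phi_one (i : R) (hi : i ∈ I) : h.phi i hi 1 = i :=
  h.eq_of_map (h.back_mem _) hi ((h.map_back _).trans (one_mul _))

include h in
/-- An element dying in `A ⊗ M` is killed by `I`. -/
lemma smul_eq_zero_of_tmul_eq_zero {m : M} (hm : (1 : A) ⊗ₜ[R] m = 0) {i : R} (hi : i ∈ I) :
    i • m = 0 := by
  have := congrArg ((TensorProduct.lid R M).toLinearMap ∘ₗ (h.phi i hi).rTensor M) hm
  simpa [h.phi_one] using this

include h in
/-- A module with vanishing base changes vanishes. -/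
theorem subsingleton (hA : Subsingleton (A ⊗[R] M)) (hB : Subsingleton ((R ⧸ I) ⊗[R] M)) :
    Subsingleton M := by
  have hIM : (I • ⊤ : Submodule R M) = ⊥ := eq_bot_iff.mpr <| Submodule.smul_le.mpr fun i hi m _ => by
    rw [h.smul_eq_zero_of_tmul_eq_zero (Subsingleton.elim _ _) hi]
    exact zero_mem _
  have : Subsingleton (M ⧸ (I • ⊤ : Submodule R M)) :=
    (TensorProduct.quotTensorEquivQuotSMul M I).symm.toEquiv.subsingleton
  refine ⟨fun a b => ?_⟩
  have := (Submodule.Quotient.eq (I • ⊤ : Submodule R M)).mp
    (Subsingleton.elim (Submodule.Quotient.mk a) (Submodule.Quotient.mk b))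
  rw [hIM, Submodule.mem_bot, sub_eq_zero] at this
  exact this

end IsPinched

/-- Generators of a finite base change can be taken from the module. -/
lemma exists_finset_span (B : Type u) [CommRing B] [Algebra R B] [Module.Finite B (B ⊗[R] M)] :
    ∃ s : Finset M, ∀ N : Submodule R M, (s : Set M) ⊆ N → Subsingleton (B ⊗[R] (M ⧸ N)) := by
  classical
  have htop : Submodule.span B (Set.range fun m : M => (1 : B) ⊗ₜ[R] m) = ⊤ := by
    refine top_le_iff.mp fun x _ => ?_
    induction x with
    | zero => exact zero_mem _
    | tmul b m =>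
      have : b ⊗ₜ[R] m = b • ((1 : B) ⊗ₜ[R] m) := by rw [TensorProduct.smul_tmul', smul_eq_mul, mul_one]
      rw [this]
      exact Submodule.smul_mem _ _ (Submodule.subset_span ⟨m, rfl⟩)
    | add x y hx hy => exact add_mem (hx trivial) (hy trivial)
  obtain ⟨t, ht, htt⟩ := (Submodule.fg_span_iff_fg_span_finset_subset _).mp
    (by rw [htop]; exact Module.Finite.fg_top (R := B) (M := B ⊗[R] M))
  choose g hg using fun x : t => ht x.2
  refine ⟨Finset.univ.image g, fun N hN => ?_⟩
  let q := (N.mkQ).baseChange B
  have hq : q = 0 := by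
    refine LinearMap.ext_on (htop ▸ htt.symm : Submodule.span B (t : Set (B ⊗[R] M)) = ⊤) fun x hx => ?_
    rw [show x = _ from (hg ⟨x, hx⟩).symm]
    show (1 : B) ⊗ₜ[R] N.mkQ (g ⟨x, hx⟩) = 0
    rw [Submodule.mkQ_apply, (Submodule.Quotient.mk_eq_zero N).mpr (hN (by simp)),
      TensorProduct.tmul_zero]
  refine subsingleton_of_forall_eq 0 fun y => ?_
  obtain ⟨x, rfl⟩ := LinearMap.lTensor_surjective B N.mkQ_surjective y
  exact DFunLike.congr_fun hq x

namespace IsPinched

lemma exists_rTensor_eq {X L Y : Type u} [AddCommGroup X] [Module R X] [AddCommGroup L] [Module R L]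
    [AddCommGroup Y] [Module R Y] {f : X →ₗ[R] L} {g : L →ₗ[R] Y} (hfg : Function.Exact f g)
    {z : L ⊗[R] M} (hz : g.rangeRestrict.rTensor M z = 0) : ∃ w, f.rTensor M w = z := by
  have hex : Function.Exact f g.rangeRestrict := fun l => by
    rw [← hfg l]
    exact ⟨fun e => congrArg Subtype.val e, fun e => Subtype.ext e⟩
  exact (rTensor_exact M hex g.surjective_rangeRestrict z).mp hz

variable (h : IsPinched (A := A) I)

include h in
/-- Finiteness can be tested after the base changes. -/
theorem finite [Module.Finite A (A ⊗[R] M)] [Module.Finite (R ⧸ I) ((R ⧸ I) ⊗[R] M)] :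
    Module.Finite R M := by
  classical
  obtain ⟨s, hs⟩ := exists_finset_span (R := R) (M := M) A
  obtain ⟨t, ht⟩ := exists_finset_span (R := R) (M := M) (R ⧸ I)
  let N : Submodule R M := Submodule.span R (↑(s ∪ t) : Set M)
  have hsub : ((s ∪ t : Finset M) : Set M) ⊆ N := Submodule.subset_span
  have := h.subsingleton (M := M ⧸ N) (hs N fun x hx => hsub (by simp [hx]))
    (ht N fun x hx => hsub (by simp [hx]))
  refine ⟨⟨s ∪ t, ?_⟩⟩
  exact Submodule.Quotient.subsingleton_iff.mp this

/-- Base change to an intermediate algebra computes injectivity after tensoring. -/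
lemma rTensor_injective_of_baseChange (B : Type u) [CommRing B] [Algebra R B]
    [Module.Flat B (B ⊗[R] M)] {X Y : Type u} [AddCommGroup X] [AddCommGroup Y] [Module R X]
    [Module B X] [IsScalarTower R B X] [Module R Y] [Module B Y] [IsScalarTower R B Y]
    (f : X →ₗ[B] Y) (hf : Function.Injective f) :
    Function.Injective ((f.restrictScalars R).rTensor M) := by
  let eX := AlgebraTensorModule.cancelBaseChange R B B X M
  let eY := AlgebraTensorModule.cancelBaseChange R B B Y M
  have key : ∀ x, eY (f.rTensor (B ⊗[R] M) x) = (f.restrictScalars R).rTensor M (eX x) := by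
    intro x
    induction x with
    | zero => simp
    | tmul x y =>
      induction y with
      | zero => simp
      | tmul b m => simp [eX, eY]
      | add y z hy hz => simp only [TensorProduct.tmul_add, map_add, hy, hz]
    | add x y hx hy => simp only [map_add, hx, hy]
  intro a b hab
  obtain ⟨a, rfl⟩ := eX.surjective a
  obtain ⟨b, rfl⟩ := eX.surjective b
  rw [← key, ← key] at hab
  exact congrArg eX (Module.Flat.rTensor_preserves_injective_linearMap f hf (eY.injective hab))

set_option maxHeartbeats 1000000 in
include h in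
/-- Flatness can be tested after the base changes. -/
theorem flat [Module.Flat A (A ⊗[R] M)] [Module.Flat (R ⧸ I) ((R ⧸ I) ⊗[R] M)] :
    Module.Flat R M := by
  classical
  refine Module.Flat.iff_rTensor_injective'.mpr fun K => ?_
  let J : Ideal A := I.map (algebraMap R A)
  -- the ideal `I` with its `A`-structure
  have hBinj : Function.Injective (h.backLin.rTensor M) := by
    intro a b hab
    have h1 := congrArg ((Algebra.linearMap R A).rTensor M) hab
    rw [← LinearMap.rTensor_comp_apply, ← LinearMap.rTensor_comp_apply] at h1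
    have e : Algebra.linearMap R A ∘ₗ h.backLin = (J.subtype).restrictScalars R :=
      LinearMap.ext fun j => h.map_back j
    rw [e] at h1
    exact rTensor_injective_of_baseChange A _ J.injective_subtype h1
  -- the image of `I K`
  let X : Ideal A := (I * K).map (algebraMap R A)
  have hXJ : X ≤ J := Ideal.map_mono Ideal.mul_le_left
  have hX : ∀ x ∈ X, ∃ k ∈ I * K, algebraMap R A k = x := by
    intro x hx
    induction hx using Submodule.span_induction with
    | mem x hx =>
      obtain ⟨k, hk, rfl⟩ := hx
      exact ⟨k, hk, rfl⟩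
    | zero => exact ⟨0, zero_mem _, map_zero _⟩
    | add x y _ _ hx hy =>
      obtain ⟨k, hk, rfl⟩ := hx
      obtain ⟨l, hl, rfl⟩ := hy
      exact ⟨k + l, add_mem hk hl, map_add _ _ _⟩
    | smul a x _ hx =>
      obtain ⟨k, hk, rfl⟩ := hx
      refine Submodule.mul_induction_on hk (fun i hi r hr => ?_) fun x y hx hy => ?_
      · refine ⟨h.back ⟨a * algebraMap R A i, Ideal.mul_mem_left _ a (Ideal.mem_map_of_mem _ hi)⟩ * r,
          Ideal.mul_mem_mul (h.back_mem _) hr, ?_⟩
        rw [map_mul, h.map_back, smul_eq_mul, map_mul, mul_assoc]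
      · obtain ⟨k, hk, ek⟩ := hx
        obtain ⟨l, hl, el⟩ := hy
        exact ⟨k + l, add_mem hk hl, by rw [map_add, ek, el, map_add, smul_add]⟩
  have hbackX : ∀ x : X, h.backLin ⟨x.1, hXJ x.2⟩ ∈ I * K := by
    rintro ⟨x, hx⟩
    obtain ⟨k, hk, rfl⟩ := hX x hx
    have e : h.back ⟨algebraMap R A k, hXJ hx⟩ = k :=
      h.eq_of_map (h.back_mem _) (Ideal.mul_le_left hk) (h.map_back _)
    show h.back _ ∈ I * K
    rw [e]
    exact hk
  -- `L = K ⊓ I`
  let L : Ideal R := K ⊓ I
  let incX : X →ₗ[A] J := Submodule.inclusion hXJ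
  let pX : X →ₗ[R] L :=
    (h.backLin ∘ₗ incX.restrictScalars R).codRestrict L fun x =>
      ⟨Ideal.mul_le_right (hbackX x), h.back_mem _⟩
  have hpX : L.subtype ∘ₗ pX = h.backLin ∘ₗ incX.restrictScalars R := rfl
  have ha : Function.Injective ((L.subtype ∘ₗ pX).rTensor M) := by
    rw [hpX, LinearMap.rTensor_comp]
    exact hBinj.comp (rTensor_injective_of_baseChange A incX (Submodule.inclusion_injective hXJ))
  -- from `L` to `J / X`
  let toJ : L →ₗ[R] J :=
    (Algebra.linearMap R A ∘ₗ L.subtype).codRestrict (J.restrictScalars R) fun l =>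
      Ideal.mem_map_of_mem _ l.2.2
  have hback : ∀ l : L, h.backLin (toJ l) = l.1 := fun l =>
    h.eq_of_map (h.back_mem _) l.2.2 (h.map_back _)
  let Xsub : Submodule A J := LinearMap.range incX
  let T : Submodule A (J ⧸ Xsub) :=
    { carrier := {y | ∀ i ∈ I, algebraMap R A i • y = 0}
      add_mem' := fun hx hy i hi => by rw [smul_add, hx i hi, hy i hi, add_zero]
      zero_mem' := fun i _ => smul_zero _
      smul_mem' := fun a y hy i hi => by rw [smul_comm, hy i hi, smul_zero] }
  let γ : L →ₗ[R] T :=
    ((Xsub.mkQ.restrictScalars R) ∘ₗ toJ).codRestrict (T.restrictScalars R) fun l i hi => by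
      show algebraMap R A i • Xsub.mkQ (toJ l) = 0
      rw [← map_smul, Submodule.mkQ_apply, Submodule.Quotient.mk_eq_zero]
      refine ⟨⟨algebraMap R A (i * l.1), Ideal.mem_map_of_mem _ (Ideal.mul_mem_mul hi l.2.1)⟩, ?_⟩
      exact Subtype.ext (map_mul (algebraMap R A) i l.1)
  have hγexact : Function.Exact pX γ := by
    intro l
    constructor
    · intro hl
      have h1 : toJ l ∈ Xsub := (Submodule.Quotient.mk_eq_zero _).mp (congrArg Subtype.val hl)
      obtain ⟨x, hx⟩ := h1
      refine ⟨x, Subtype.ext ?_⟩
      show h.backLin (incX x) = l.1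
      rw [hx, hback]
    · rintro ⟨x, rfl⟩
      refine Subtype.ext ((Submodule.Quotient.mk_eq_zero _).mpr ⟨x, Subtype.ext ?_⟩)
      exact (h.map_back _).symm
  -- the part of `L` not in `I K`
  have hγinj : Function.Injective ((γ.range.subtype).rTensor M) := by
    have tT : Module.IsTorsionBySet R T (I : Set R) := fun y i => by
      refine Subtype.ext ?_
      show (i : R) • y.1 = 0
      rw [← algebraMap_smul A (i : R) y.1]
      exact y.2 i i.2
    have tG : Module.IsTorsionBySet R γ.range (I : Set R) := fun y i => Subtype.ext (@tT y.1 i)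
    letI := tT.module
    letI : Module (R ⧸ I) γ.range := Module.IsTorsionBySet.module (M := γ.range) tG
    haveI : IsScalarTower R (R ⧸ I) T := tT.isScalarTower
    haveI : IsScalarTower R (R ⧸ I) γ.range := Module.IsTorsionBySet.isScalarTower (M := γ.range) tG
    let inc : γ.range →ₗ[R ⧸ I] T :=
      { toFun := γ.range.subtype
        map_add' := map_add _
        map_smul' := fun c y => by
          obtain ⟨r, rfl⟩ := Ideal.Quotient.mk_surjective c
          rfl }
    exact rTensor_injective_of_baseChange (R ⧸ I) inc fun _ _ e => Subtype.val_injective e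
  have hTinj : Function.Injective ((T.subtype.restrictScalars R).rTensor M) :=
    rTensor_injective_of_baseChange A T.subtype T.injective_subtype
  have hL : Function.Injective (L.subtype.rTensor M) := by
    rw [injective_iff_map_eq_zero]
    intro z hz
    have h0 : (toJ.rTensor M) z = 0 := by
      apply hBinj
      rw [← LinearMap.rTensor_comp_apply, show h.backLin ∘ₗ toJ = L.subtype from LinearMap.ext hback,
        hz, map_zero]
    have h1 : ((T.subtype.restrictScalars R).rTensor M) ((γ.range.subtype).rTensor M
        (γ.rangeRestrict.rTensor M z)) = 0 := by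
      rw [← LinearMap.rTensor_comp_apply, ← LinearMap.rTensor_comp_apply,
        show ((T.subtype.restrictScalars R) ∘ₗ γ.range.subtype) ∘ₗ γ.rangeRestrict =
          (Xsub.mkQ.restrictScalars R) ∘ₗ toJ from rfl, LinearMap.rTensor_comp_apply, h0, map_zero]
    have h2 : γ.rangeRestrict.rTensor M z = 0 :=
      hγinj ((hTinj (h1.trans (map_zero _).symm)).trans (map_zero _).symm)
    obtain ⟨w, rfl⟩ := exists_rTensor_eq (Y := T) hγexact h2
    rw [← LinearMap.rTensor_comp_apply] at hz
    rw [ha (hz.trans (map_zero _).symm), map_zero]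
  -- the quotient `K / L`
  rw [injective_iff_map_eq_zero]
  intro z hz
  let qB : K →ₗ[R] R ⧸ I := I.mkQ ∘ₗ K.subtype
  have hB : Function.Injective (qB.range.subtype.rTensor M) := by
    have tq : Module.IsTorsionBySet R qB.range (I : Set R) := fun y i => by
      refine Subtype.ext ?_
      show (i : R) • y.1 = 0
      obtain ⟨r, hr⟩ := Ideal.Quotient.mk_surjective y.1
      rw [← hr]
      exact (Ideal.Quotient.eq_zero_iff_mem).mpr (I.mul_mem_right r i.2)
    letI : Module (R ⧸ I) qB.range := Module.IsTorsionBySet.module (M := qB.range) tq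
    haveI : IsScalarTower R (R ⧸ I) qB.range := Module.IsTorsionBySet.isScalarTower (M := qB.range) tq
    let inc : qB.range →ₗ[R ⧸ I] R ⧸ I :=
      { toFun := qB.range.subtype
        map_add' := map_add _
        map_smul' := fun c y => by
          obtain ⟨r, rfl⟩ := Ideal.Quotient.mk_surjective c
          rfl }
    exact rTensor_injective_of_baseChange (R ⧸ I) inc fun _ _ e => Subtype.val_injective e
  have h2 : qB.rangeRestrict.rTensor M z = 0 := by
    apply hB
    rw [← LinearMap.rTensor_comp_apply, map_zero,
      show qB.range.subtype ∘ₗ qB.rangeRestrict = I.mkQ ∘ₗ K.subtype from rfl,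
      LinearMap.rTensor_comp_apply]
    erw [hz]
    rw [map_zero]
  have hex : Function.Exact (Submodule.inclusion (inf_le_left : L ≤ K)) qB.rangeRestrict := by
    intro k
    constructor
    · intro hk
      exact ⟨⟨k.1, k.2, Ideal.Quotient.eq_zero_iff_mem.mp (congrArg Subtype.val hk)⟩, rfl⟩
    · rintro ⟨l, rfl⟩
      exact Subtype.ext (Ideal.Quotient.eq_zero_iff_mem.mpr l.2.2)
  obtain ⟨w, rfl⟩ := (rTensor_exact M hex qB.surjective_rangeRestrict z).mp h2
  have hw : L.subtype.rTensor M w = 0 := by
    rw [← hz, ← LinearMap.rTensor_comp_apply]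
    rfl
  rw [hL (hw.trans (map_zero _).symm), map_zero]

include h in
/-- A flat module with finitely presented base changes is finitely presented. -/
theorem finitePresentation [Module.Flat R M] [Module.FinitePresentation A (A ⊗[R] M)]
    [Module.FinitePresentation (R ⧸ I) ((R ⧸ I) ⊗[R] M)] : Module.FinitePresentation R M := by
  classical
  have : Module.Finite R M := h.finite
  obtain ⟨n, p, hp⟩ := Module.Finite.exists_fin' R M
  -- finitely many relations suffice
  have hgen : ∀ (B : Type u) [CommRing B] [Algebra R B], Module.FinitePresentation B (B ⊗[R] M) →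
      ∃ s : Finset (LinearMap.ker p), ∀ N : Submodule R (Fin n → R), (∀ k ∈ s, k.1 ∈ N) →
        ∀ y, p.lTensor B y = 0 → N.mkQ.lTensor B y = 0 := by
    intro B _ _ hB
    have hker : (LinearMap.ker (p.baseChange B)).FG :=
      Module.FinitePresentation.fg_ker _ (LinearMap.lTensor_surjective B hp)
    obtain ⟨t, ht⟩ := hker
    have hlift : ∀ y : t, ∃ w : B ⊗[R] LinearMap.ker p, (LinearMap.ker p).subtype.lTensor B w = y.1 :=
      fun y => (lTensor_exact B (p.exact_subtype_ker_map) hp y.1).mp
        (ht.le (Submodule.subset_span y.2) : _ ∈ LinearMap.ker (p.baseChange B))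
    choose w hw using hlift
    have hfin : ∀ y : t, ∃ s : Finset (LinearMap.ker p), ∀ N : Submodule R (Fin n → R),
        (∀ k ∈ s, k.1 ∈ N) → (N.mkQ ∘ₗ (LinearMap.ker p).subtype).lTensor B (w y) = 0 := by
      intro y
      obtain ⟨S, hS⟩ := TensorProduct.exists_finset (w y)
      refine ⟨S.image Prod.snd, fun N hN => ?_⟩
      rw [hS, map_sum]
      refine Finset.sum_eq_zero fun x hx => ?_
      rw [LinearMap.lTensor_tmul, LinearMap.comp_apply, Submodule.mkQ_apply, Submodule.subtype_apply,
        (Submodule.Quotient.mk_eq_zero N).mpr (hN _ (Finset.mem_image_of_mem _ hx)),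
        TensorProduct.tmul_zero]
    choose s hs using hfin
    refine ⟨Finset.univ.biUnion s, fun N hN y hy => ?_⟩
    have hy' : y ∈ Submodule.span B (t : Set (B ⊗[R] (Fin n → R))) := ht.ge hy
    have hspan : Submodule.span B (t : Set (B ⊗[R] (Fin n → R))) ≤
        LinearMap.ker (N.mkQ.baseChange B) := Submodule.span_le.mpr fun x hx => by
      show N.mkQ.lTensor B x = 0
      rw [show x = _ from (hw ⟨x, hx⟩).symm, ← LinearMap.lTensor_comp_apply]
      exact hs _ N fun k hk => hN k (Finset.mem_biUnion.mpr ⟨_, Finset.mem_univ _, hk⟩)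
    exact hspan hy'
  obtain ⟨sA, hsA⟩ := hgen A inferInstance
  obtain ⟨sB, hsB⟩ := hgen (R ⧸ I) inferInstance
  let N : Submodule R (Fin n → R) := Submodule.span R (↑((sA ∪ sB).image Subtype.val) : Set (Fin n → R))
  have hN : ∀ k ∈ sA ∪ sB, k.1 ∈ N := fun k hk =>
    Submodule.subset_span (Finset.mem_image_of_mem _ hk)
  have hNp : N ≤ LinearMap.ker p := Submodule.span_le.mpr fun x hx => by
    obtain ⟨k, -, rfl⟩ := Finset.mem_image.mp hx
    exact k.2
  let q : ((Fin n → R) ⧸ N) →ₗ[R] M := N.liftQ p hNp
  have hqinj : ∀ (B : Type u) [CommRing B] [Algebra R B] (s : Finset (LinearMap.ker p)),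
      (∀ N' : Submodule R (Fin n → R), (∀ k ∈ s, k.1 ∈ N') →
        ∀ y, p.lTensor B y = 0 → N'.mkQ.lTensor B y = 0) → (∀ k ∈ s, k.1 ∈ N) →
      Function.Injective (q.lTensor B) := by
    intro B _ _ s hs hsN
    rw [injective_iff_map_eq_zero]
    intro z hz
    obtain ⟨y, rfl⟩ := LinearMap.lTensor_surjective B N.mkQ_surjective z
    refine hs N hsN y ?_
    rw [← hz, ← LinearMap.lTensor_comp_apply, Submodule.liftQ_mkQ]
  have hA := hqinj A sA hsA fun k hk => hN k (Finset.mem_union_left _ hk)
  have hB := hqinj (R ⧸ I) sB hsB fun k hk => hN k (Finset.mem_union_right _ hk)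
  -- `q` is injective
  let J : Ideal A := I.map (algebraMap R A)
  have hJM : Function.Injective ((h.backLin).rTensor M) := by
    refine Module.Flat.rTensor_preserves_injective_linearMap _ fun a b e => Subtype.ext ?_
    rw [← h.map_back a, ← h.map_back b]
    exact congrArg (algebraMap R A) e
  have hq : Function.Injective q := by
    rw [injective_iff_map_eq_zero]
    intro x hx
    let Q := (Fin n → R) ⧸ N
    have h1 : (1 : R ⧸ I) ⊗ₜ[R] x = 0 := hB (by simp [hx])
    have h2 : x ∈ (I • ⊤ : Submodule R Q) := by
      have := congrArg (TensorProduct.quotTensorEquivQuotSMul Q I) h1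
      rw [map_zero, ← map_one (Ideal.Quotient.mk I), TensorProduct.quotTensorEquivQuotSMul_mk_tmul,
        one_smul, Submodule.Quotient.mk_eq_zero] at this
      exact this
    obtain ⟨v, hv⟩ : ∃ v : J ⊗[R] Q, TensorProduct.lid R Q (h.backLin.rTensor Q v) = x := by
      refine Submodule.smul_induction_on h2 (fun i hi y _ => ?_) fun a b ha hb => ?_
      · refine ⟨⟨algebraMap R A i, Ideal.mem_map_of_mem _ hi⟩ ⊗ₜ[R] y, ?_⟩
        rw [LinearMap.rTensor_tmul, TensorProduct.lid_tmul]
        exact congrArg (· • y) (h.eq_of_map (h.back_mem _) hi (h.map_back _))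
      · obtain ⟨va, rfl⟩ := ha
        obtain ⟨vb, rfl⟩ := hb
        exact ⟨va + vb, by rw [map_add, map_add]⟩
    have hcomm : ∀ v : J ⊗[R] Q, TensorProduct.lid R M (h.backLin.rTensor M (q.lTensor J v)) =
        q (TensorProduct.lid R Q (h.backLin.rTensor Q v)) := by
      intro v
      induction v with
      | zero => simp
      | tmul j y => simp
      | add a b ha hb => simp only [map_add, ha, hb]
    have h3 : q.lTensor J v = 0 := by
      refine hJM ((TensorProduct.lid R M).injective ?_)
      rw [hcomm, hv, hx, map_zero, map_zero]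
    let eQ := AlgebraTensorModule.cancelBaseChange R A A J Q
    let eM := AlgebraTensorModule.cancelBaseChange R A A J M
    obtain ⟨v', rfl⟩ := eQ.surjective v
    have key : ∀ w, eM ((q.baseChange A).lTensor J w) = q.lTensor J (eQ w) := by
      intro w
      induction w with
      | zero => simp
      | tmul j y =>
        induction y with
        | zero => simp
        | tmul b m => simp [eQ, eM]
        | add y z hy hz => simp only [TensorProduct.tmul_add, map_add, hy, hz]
      | add x y hx hy => simp only [map_add, hx, hy]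
    have h4 : (q.baseChange A).lTensor J v' = 0 := eM.injective (by rw [key, h3, map_zero])
    have hqA : Function.Bijective (q.baseChange A) :=
      ⟨hA, LinearMap.lTensor_surjective A fun m => (hp m).elim fun y hy => ⟨N.mkQ y, hy⟩⟩
    have h5 : v' = 0 := ((LinearEquiv.ofBijective _ hqA).lTensor J).injective (by
      rw [map_zero]; exact h4)
    rw [← hv, h5, map_zero, map_zero, map_zero]
  have : Module.FinitePresentation R ((Fin n → R) ⧸ N) :=
    Module.finitePresentation_of_surjective N.mkQ N.mkQ_surjective (by
      rw [Submodule.ker_mkQ]; exact Submodule.fg_span (Finset.finite_toSet _))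
  exact Module.FinitePresentation.of_equiv
    (LinearEquiv.ofBijective q ⟨hq, fun m => (hp m).elim fun y hy => ⟨N.mkQ y, hy⟩⟩)

end IsPinched

end Groth.Agent.PinchLib
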