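import Groth.Agent.PinchLib.SchemePushout

/-!
# A criterion for pushouts of ringed spaces

A square of schemes is a pushout of ringed spaces when it is a pushout of spaces and the sections
over every open are the compatible pairs of sections.
-/

set_option autoImplicit false
set_option backward.isDefEq.respectTransparency false

universe u

open CategoryTheory Limits AlgebraicGeometry TopologicalSpace Opposite

noncomputable section

namespace Groth.Agent.PinchLib

variable {X Z Z' X' : Scheme.{u}} {ι : Z ⟶ X} {q : Z ⟶ Z'} {π : X ⟶ X'} {ι' : Z' ⟶ X'}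
  (w : ι ≫ π = q ≫ ι')

include w in
/-- Preimages in the corner agree in a commutative square. -/
lemma preimage_of_w (U : X'.Opens) : ι ⁻¹ᵁ π ⁻¹ᵁ U = q ⁻¹ᵁ ι' ⁻¹ᵁ U :=
  congrArg (fun k : Z ⟶ X' => k ⁻¹ᵁ U) w

/-- The sections over `U` are the compatible pairs. -/
structure SecProp (U : X'.Opens) : Prop where
  inj : ∀ x y : Γ(X', U), π.app U x = π.app U y → ι'.app U x = ι'.app U y → x = y
  exists_glue : ∀ (s : Γ(X, π ⁻¹ᵁ U)) (t : Γ(Z', ι' ⁻¹ᵁ U)),
    ι.appLE (π ⁻¹ᵁ U) (ι ⁻¹ᵁ π ⁻¹ᵁ U) le_rfl s =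
      q.appLE (ι' ⁻¹ᵁ U) (ι ⁻¹ᵁ π ⁻¹ᵁ U) (preimage_of_w w U).le t →
    ∃ x : Γ(X', U), π.app U x = s ∧ ι'.app U x = t

variable (htop : IsPushout ι.base q.base π.base ι'.base) (hsec : ∀ U, SecProp w U)

include htop hsec in
/-- The sections of a cocone over an open descend. -/
lemma exists_desc_section {W : SheafedSpace CommRingCat.{u}} (g : (X'.toTopCat) ⟶ W.carrier)
    (ac : W.presheaf ⟶ (π.base ≫ g) _* X.presheaf) (bc : W.presheaf ⟶ (ι'.base ≫ g) _* Z'.presheaf)
    (hab : (toSh.map ι).hom ≫ (⟨π.base ≫ g, ac⟩ : (toSh.obj X).toPresheafedSpace ⟶ W.toPresheafedSpace) =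
      (toSh.map q).hom ≫ (⟨ι'.base ≫ g, bc⟩ : (toSh.obj Z').toPresheafedSpace ⟶ W.toPresheafedSpace))
    (U : Opens W.carrier) (z : W.presheaf.obj (op U)) :
    ∃ x : Γ(X', (Opens.map g).obj U), π.app _ x = ac.app (op U) z ∧ ι'.app _ x = bc.app (op U) z := by
  refine (hsec _).exists_glue _ _ ?_
  have h := ConcreteCategory.congr_hom (PresheafedSpace.congr_app hab (op U)) z
  refine (congrArg (fun k => k (ac.app (op U) z)) (Scheme.Hom.appLE_eq_app ι)).trans ?_
  refine h.trans ?_
  rw [Scheme.Hom.appLE]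
  rfl

/-- A cocone of ringed spaces descends. -/
theorem exists_desc {W : SheafedSpace CommRingCat.{u}} (g : (X'.toTopCat) ⟶ W.carrier)
    (ac : W.presheaf ⟶ (π.base ≫ g) _* X.presheaf) (bc : W.presheaf ⟶ (ι'.base ≫ g) _* Z'.presheaf)
    (hab : (toSh.map ι).hom ≫ (⟨π.base ≫ g, ac⟩ : (toSh.obj X).toPresheafedSpace ⟶ W.toPresheafedSpace) =
      (toSh.map q).hom ≫ (⟨ι'.base ≫ g, bc⟩ : (toSh.obj Z').toPresheafedSpace ⟶ W.toPresheafedSpace))
    (htop : IsPushout ι.base q.base π.base ι'.base) (hsec : ∀ U, SecProp w U) :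
    ∃ m : (toSh.obj X').toPresheafedSpace ⟶ W.toPresheafedSpace,
      (toSh.map π).hom ≫ m = ⟨π.base ≫ g, ac⟩ ∧ (toSh.map ι').hom ≫ m = ⟨ι'.base ≫ g, bc⟩ := by
  choose x hxX hxZ using exists_desc_section w htop hsec g ac bc hab
  have ext' : ∀ (U : Opens W.carrier) (a b : Γ(X', (Opens.map g).obj U)),
      π.app _ a = π.app _ b → ι'.app _ a = ι'.app _ b → a = b := fun U => (hsec _).inj
  let φ : ∀ U : Opens W.carrier, W.presheaf.obj (op U) →+* Γ(X', (Opens.map g).obj U) := fun U =>
    { toFun := x U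
      map_one' := ext' U _ _ (by rw [hxX, map_one, map_one]) (by rw [hxZ, map_one, map_one])
      map_mul' := fun a b => ext' U _ _ (by rw [hxX, map_mul, map_mul, hxX, hxX])
        (by rw [hxZ, map_mul, map_mul, hxZ, hxZ])
      map_zero' := ext' U _ _ (by rw [hxX, map_zero, map_zero]) (by rw [hxZ, map_zero, map_zero])
      map_add' := fun a b => ext' U _ _ (by rw [hxX, map_add, map_add, hxX, hxX])
        (by rw [hxZ, map_add, map_add, hxZ, hxZ]) }
  let c : W.presheaf ⟶ g _* X'.presheaf :=
    { app := fun U => CommRingCat.ofHom (φ U.unop)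
      naturality := fun U V i => by
        refine CommRingCat.hom_ext (RingHom.ext fun z => ext' V.unop _ _ ?_ ?_)
        · show π.app _ (x V.unop (W.presheaf.map i z)) =
            π.app _ (X'.presheaf.map ((Opens.map g).map i.unop).op (x U.unop z))
          rw [hxX]
          refine (ConcreteCategory.congr_hom (ac.naturality i) z).trans ?_
          refine Eq.trans ?_ (ConcreteCategory.congr_hom
            (π.naturality ((Opens.map g).map i.unop).op) (x U.unop z)).symm
          exact congrArg _ (hxX U.unop z).symm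
        · show ι'.app _ (x V.unop (W.presheaf.map i z)) =
            ι'.app _ (X'.presheaf.map ((Opens.map g).map i.unop).op (x U.unop z))
          rw [hxZ]
          refine (ConcreteCategory.congr_hom (bc.naturality i) z).trans ?_
          refine Eq.trans ?_ (ConcreteCategory.congr_hom
            (ι'.naturality ((Opens.map g).map i.unop).op) (x U.unop z)).symm
          exact congrArg _ (hxZ U.unop z).symm }
  refine ⟨⟨g, c⟩, PresheafedSpace.ext _ _ rfl ?_, PresheafedSpace.ext _ _ rfl ?_⟩
  · simp only [eqToHom_refl, Functor.whiskerRight_id', Category.comp_id]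
    exact NatTrans.ext (funext fun U => CommRingCat.hom_ext (RingHom.ext fun z => hxX U.unop z))
  · simp only [eqToHom_refl, Functor.whiskerRight_id', Category.comp_id]
    exact NatTrans.ext (funext fun U => CommRingCat.hom_ext (RingHom.ext fun z => hxZ U.unop z))

include w htop hsec in
/-- Two morphisms of ringed spaces from the corner agreeing on both legs are equal. -/
theorem desc_unique {W : SheafedSpace CommRingCat.{u}}
    (m m' : (toSh.obj X').toPresheafedSpace ⟶ W.toPresheafedSpace)
    (hX : (toSh.map π).hom ≫ m = (toSh.map π).hom ≫ m')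
    (hZ : (toSh.map ι').hom ≫ m = (toSh.map ι').hom ≫ m') : m = m' := by
  obtain ⟨g, c⟩ := m
  obtain ⟨g', c'⟩ := m'
  obtain rfl : g = g' :=
    htop.hom_ext (congrArg PresheafedSpace.Hom.base hX) (congrArg PresheafedSpace.Hom.base hZ)
  obtain rfl : c = c' := by
    refine NatTrans.ext (funext fun U => CommRingCat.hom_ext (RingHom.ext fun z => (hsec _).inj _ _ ?_ ?_))
    · have := ConcreteCategory.congr_hom (PresheafedSpace.congr_app hX U) z
      simp only [eqToHom_refl, CategoryTheory.Functor.map_id, Category.comp_id] at this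
      exact this
    · have := ConcreteCategory.congr_hom (PresheafedSpace.congr_app hZ U) z
      simp only [eqToHom_refl, CategoryTheory.Functor.map_id, Category.comp_id] at this
      exact this
  rfl

include htop hsec in
/-- The criterion. -/
theorem isPushout_of_sections :
    IsPushout (toSh.map ι) (toSh.map q) (toSh.map π) (toSh.map ι') := by
  have hw : toSh.map ι ≫ toSh.map π = toSh.map q ≫ toSh.map ι' := by
    rw [← Functor.map_comp, ← Functor.map_comp, w]
  have hd : ∀ s : PushoutCocone (toSh.map ι) (toSh.map q),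
      ∃ m : toSh.obj X' ⟶ s.pt, toSh.map π ≫ m = s.inl ∧ toSh.map ι' ≫ m = s.inr := by
    intro s
    obtain ⟨⟨abase, ac⟩, ha⟩ : ∃ a : (toSh.obj X).toPresheafedSpace ⟶ s.pt.toPresheafedSpace,
      s.inl.hom = a := ⟨_, rfl⟩
    obtain ⟨⟨bbase, bc⟩, hb⟩ : ∃ b : (toSh.obj Z').toPresheafedSpace ⟶ s.pt.toPresheafedSpace,
      s.inr.hom = b := ⟨_, rfl⟩
    have hc := congrArg InducedCategory.Hom.hom s.condition
    change (toSh.map ι).hom ≫ s.inl.hom = (toSh.map q).hom ≫ s.inr.hom at hc
    rw [ha, hb] at hc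
    have hb' : ι.base ≫ abase = q.base ≫ bbase := congrArg PresheafedSpace.Hom.base hc
    obtain ⟨g, hg1, hg2⟩ : ∃ g, π.base ≫ g = abase ∧ ι'.base ≫ g = bbase :=
      ⟨htop.desc abase bbase hb', htop.inl_desc _ _ _, htop.inr_desc _ _ _⟩
    subst hg1 hg2
    obtain ⟨m, hm1, hm2⟩ := exists_desc w g ac bc hc htop hsec
    exact ⟨InducedCategory.homMk m, InducedCategory.hom_ext (hm1.trans ha.symm),
      InducedCategory.hom_ext (hm2.trans hb.symm)⟩
  choose d hd1 hd2 using hd
  exact IsPushout.of_isColimit' ⟨hw⟩ (PushoutCocone.IsColimit.mk _ d hd1 hd2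
    fun s m h1 h2 => InducedCategory.hom_ext (desc_unique w htop hsec _ _
      ((congrArg InducedCategory.Hom.hom (h1.trans (hd1 s).symm)) :)
      ((congrArg InducedCategory.Hom.hom (h2.trans (hd2 s).symm)) :)))

end Groth.Agent.PinchLib
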